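import Cfsg.Agent.Char.Virtual
import Cfsg.Agent.Char.Kernel
import Cfsg.Agent.Char.Integrality
import Cfsg.Agent.Block.CentralChar
import Cfsg.Agent.Block.GroupAlgebra
import Cfsg.Agent.Block.LocalRing
import Cfsg.Agent.BlkChar.PModular
import Cfsg.Agent.Coprime.Conj
import Mathlib.Data.ZMod.Basic
import Mathlib.Algebra.Field.ZMod

/-!
# The Glauberman correspondence for a p-group of operators

A p-group `A` acts on `G` with p not dividing `|G|`; `ι : C →* G` identifies `C` with the fixed
points. Everything rests on one congruence: a sum of an invariant integral function over `G`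
agrees mod p with its sum over `C`.
-/

set_option autoImplicit false
set_option linter.style.haveILetI false
set_option linter.unusedSectionVars false

open scoped ComplexConjugate

namespace Cfsg.Agent.Glauberman

open Cfsg Cfsg.Agent

universe u v w

variable {p : ℕ} [Fact p.Prime]
variable {A : Type w} [Group A] {G : Type u} [Group G] [Fintype G]
variable {C : Type v} [Group C] [Fintype C] (φ : A →* MulAut G) (ι : C →* G)

/-- Invariance of a function on `G` under the operators. -/
def IsInv {X : Type*} (f : G → X) : Prop := ∀ (a : A) (g : G), f (φ a g) = f g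

/-- `ι` identifies `C` with the fixed points of the operators. -/
def IsFixedEmb : Prop :=
  Function.Injective ι ∧ ∀ g : G, g ∈ Set.range ι ↔ ∀ a : A, φ a g = g

variable {φ ι}

theorem fix_apply (hι : IsFixedEmb φ ι) (a : A) (c : C) : φ a (ι c) = ι c :=
  (hι.2 (ι c)).1 ⟨c, rfl⟩ a

/-- The basic congruence. -/
theorem cong_sum (hA : IsPGroup p A) (hι : IsFixedEmb φ ι) {f : G → ℂ}
    (hint : ∀ g, IsIntegral ℤ (f g)) (hf : IsInv φ f) {n m : ℤ}
    (hn : ∑ g, f g = n) (hm : ∑ c, f (ι c) = m) : (n : ZMod p) = m := by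
  classical
  obtain ⟨M, hM⟩ := BlkChar.exists_isPModular p Fact.out
  haveI := Block.isPrime_of_isPModular hM
  haveI := Block.charP_resF hM
  letI : MulAction A G := MulAction.compHom G φ
  let f' : G → Block.localRing M := fun g =>
    ⟨f g, Block.memLocalRing_of_isIntegral (hint g)⟩
  have key := Block.sum_eq_sum_fixedPoints (R := Block.ResF M) (p := p) hA (X := G)
    (fun g => Block.red M (f' g)) (fun a g => congrArg _ (Subtype.ext (hf a g)))
  have himg : (Finset.univ.filter fun g : G => g ∈ MulAction.fixedPoints A G) =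
      (Finset.univ : Finset C).image ι := by
    ext g
    simp only [Finset.mem_filter, Finset.mem_univ, true_and, Finset.mem_image]
    exact (hι.2 g).symm
  rw [himg, Finset.sum_image (fun _ _ _ _ h => hι.1 h), ← map_sum, ← map_sum,
    Block.red_eq_iff] at key
  simp only [AddSubmonoidClass.coe_finsetSum, f', hn, hm, ← Int.cast_sub] at key
  have h1 := (Block.memLocalIdeal_intCast_iff hM _).1 key
  exact ((ZMod.intCast_eq_intCast_iff_dvd_sub m n p).2 h1).symm

theorem cong_card (hA : IsPGroup p A) (hι : IsFixedEmb φ ι) :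
    (Nat.card G : ZMod p) = Nat.card C := by
  have := cong_sum hA hι (f := fun _ => (1 : ℂ)) (fun _ => isIntegral_one) (fun _ _ => rfl)
    (n := Nat.card G) (m := Nat.card C) (by simp) (by simp)
  exact_mod_cast this

/-- An invariant predicate holding on a set of size prime to `p` holds at a fixed point. -/
theorem exists_fixed (hA : IsPGroup p A) (hι : IsFixedEmb φ ι) {P : G → Prop}
    (hP : ∀ (a : A) g, P g → P (φ a g)) (hn : ¬ p ∣ Nat.card {g // P g}) : ∃ c, P (ι c) := by
  classical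
  by_contra hcon
  simp only [not_exists] at hcon
  have hP' : ∀ (a : A) g, P (φ a g) ↔ P g := fun a g => ⟨fun h => by
    have := hP a⁻¹ _ h
    simpa using this, hP a g⟩
  have := cong_sum hA hι (f := fun g => if P g then (1 : ℂ) else 0)
    (fun g => by
      split_ifs
      exacts [isIntegral_one, isIntegral_zero])
    (fun a g => by simp only [hP' a g])
    (n := Nat.card {g // P g}) (m := 0)
    (by simp [Finset.sum_boole, Nat.card_eq_fintype_card, Fintype.card_subtype])
    (by simp [hcon])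
  rw [Int.cast_natCast, Int.cast_zero, ZMod.natCast_eq_zero_iff] at this
  exact hn this

/-! ### Multiplicities -/

variable (ι)

/-- The multiplicity of `β` in the restriction of `χ` along `ι`. -/
noncomputable def mult (χ : IrrCharacter G) (β : IrrCharacter C) : ℕ :=
  (Char.isCharacter_classInner_nat
    (Char.isCharacter_comp (Char.isCharacter_of_irr χ.2) ι) β).choose

theorem mult_spec (χ : IrrCharacter G) (β : IrrCharacter C) :
    classInner (fun c => (χ : G → ℂ) (ι c)) (β : C → ℂ) = (mult ι χ β : ℂ) :=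
  (Char.isCharacter_classInner_nat
    (Char.isCharacter_comp (Char.isCharacter_of_irr χ.2) ι) β).choose_spec

theorem mult_eq {χ : IrrCharacter G} {β : IrrCharacter C} {m : ℕ}
    (h : classInner (fun c => (χ : G → ℂ) (ι c)) (β : C → ℂ) = (m : ℂ)) : mult ι χ β = m := by
  rw [mult_spec] at h
  exact_mod_cast h

theorem restrict_eq (χ : IrrCharacter G) (x : C) :
    (χ : G → ℂ) (ι x) = ∑ γ : IrrCharacter C, (mult ι χ γ : ℂ) * (γ : C → ℂ) x := by
  have := congrFun (Char.eq_sum_classInner_smul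
    (Char.isCharacter_isClassFunction (Char.isCharacter_comp (Char.isCharacter_of_irr χ.2) ι))) x
  simp only [Finset.sum_apply, Pi.smul_apply, smul_eq_mul, Function.comp_apply] at this
  rw [this]
  exact Finset.sum_congr rfl fun γ _ => by rw [← mult_spec]; rfl

theorem sum_restrict_conj (χ : IrrCharacter G) (β : IrrCharacter C) :
    ∑ x : C, (χ : G → ℂ) (ι x) * conj ((β : C → ℂ) x) = (Nat.card C : ℂ) * mult ι χ β := by
  rw [Char.sum_mul_conj_eq_card_mul_classInner (fun x => (χ : G → ℂ) (ι x)), mult_spec]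

variable {ι}

theorem natCast_ne_zero_of_dvd (hpG : ¬ p ∣ Nat.card G) {n : ℕ} (hn : n ∣ Nat.card G) :
    (n : ZMod p) ≠ 0 := fun h => hpG (((ZMod.natCast_eq_zero_iff _ _).1 h).trans hn)

theorem card_dvd (hι : IsFixedEmb φ ι) : Nat.card C ∣ Nat.card G :=
  Subgroup.card_dvd_of_injective ι hι.1

theorem sum_triple {ι₁ ι₂ : Type*} [Fintype ι₁] [Fintype ι₂] (k : ℂ)
    (T : ι₁ → ι₂ → ι₂ → ℂ) (a b : ι₂ → ℂ) :
    ∑ g, k * ∑ x, ∑ y, T g x y * a x * b y = k * ∑ x, ∑ y, (∑ g, T g x y) * a x * b y := by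
  rw [← Finset.mul_sum, Finset.sum_comm]
  congr 1
  refine Finset.sum_congr rfl fun x _ => ?_
  rw [Finset.sum_comm]
  simp only [Finset.sum_mul]

/-- The key congruence, from the product formula for `χ`. -/
theorem mult_rel (hA : IsPGroup p A) (hι : IsFixedEmb φ ι) (hpG : ¬ p ∣ Nat.card G)
    {χ : IrrCharacter G} (hχ : IsInv φ (χ : G → ℂ)) (β β' : IrrCharacter C) {d b : ℕ}
    (hd : (χ : G → ℂ) 1 = d) (hb : (β : C → ℂ) 1 = b) [Decidable (β = β')] :
    (b : ZMod p) * mult ι χ β * mult ι χ β' =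
      if β = β' then (d : ZMod p) * mult ι χ β else 0 := by
  classical
  have hd0 : (χ : G → ℂ) 1 ≠ 0 := Char.irr_one_ne_zero χ.2
  have hC : (Nat.card C : ZMod p) ≠ 0 := natCast_ne_zero_of_dvd hpG (card_dvd hι)
  let f : G → ℂ := fun g => (d : ℂ) * b *
    ∑ x : C, ∑ y : C,
      (χ : G → ℂ) (ι x * (g * ι y * g⁻¹)) * (β : C → ℂ) x⁻¹ * (β' : C → ℂ) y⁻¹
  have hint : ∀ g, IsIntegral ℤ (f g) := fun g =>
    ((Char.isIntegral_of_nat d).mul (Char.isIntegral_of_nat b)).mul
      (IsIntegral.sum _ fun x _ => IsIntegral.sum _ fun y _ =>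
        ((Char.isCharacter_isIntegral (Char.isCharacter_of_irr χ.2) _).mul
          (Char.isCharacter_isIntegral (Char.isCharacter_of_irr β.2) _)).mul
          (Char.isCharacter_isIntegral (Char.isCharacter_of_irr β'.2) _))
  have hinv : IsInv φ f := fun a g => by
    show _ * _ = _ * _
    congr 1
    refine Finset.sum_congr rfl fun x _ => Finset.sum_congr rfl fun y _ => ?_
    congr 2
    conv_rhs => rw [← hχ a, map_mul, map_mul, map_mul, map_inv, fix_apply hι, fix_apply hι]
  have hG : ∑ g, f g =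
      ((b * Nat.card G * Nat.card C ^ 2 * mult ι χ β * mult ι χ β' : ℕ) : ℂ) := by
    have h1 : ∀ x y : C, ∑ g : G, (χ : G → ℂ) (ι x * (g * ι y * g⁻¹)) =
        (Nat.card G : ℂ) * (χ : G → ℂ) (ι x) * (χ : G → ℂ) (ι y) / (χ : G → ℂ) 1 :=
      fun x y => Block.sum_char_mul_conj χ.2 _ _
    simp only [f, sum_triple, h1, Char.irr_inv β.2, Char.irr_inv β'.2]
    have h2 : ∀ x y : C,
        (Nat.card G : ℂ) * (χ : G → ℂ) (ι x) * (χ : G → ℂ) (ι y) / (χ : G → ℂ) 1 *
          conj ((β : C → ℂ) x) * conj ((β' : C → ℂ) y) =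
        (Nat.card G : ℂ) / (χ : G → ℂ) 1 * (((χ : G → ℂ) (ι x) * conj ((β : C → ℂ) x)) *
          ((χ : G → ℂ) (ι y) * conj ((β' : C → ℂ) y))) := fun x y => by ring
    simp_rw [h2, ← Finset.mul_sum, ← Finset.sum_mul, sum_restrict_conj]
    rw [← hd]
    push_cast
    field_simp
  have hCsum : ∑ c, f (ι c) =
      ((if β = β' then d * Nat.card C ^ 3 * mult ι χ β else 0 : ℕ) : ℂ) := by
    have h1 : ∀ x y : C, ∑ c : C, (χ : G → ℂ) (ι x * (ι c * ι y * (ι c)⁻¹)) =
        ∑ γ : IrrCharacter C, (mult ι χ γ : ℂ) *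
          ((Nat.card C : ℂ) * (γ : C → ℂ) x * (γ : C → ℂ) y / (γ : C → ℂ) 1) := by
      intro x y
      calc ∑ c : C, (χ : G → ℂ) (ι x * (ι c * ι y * (ι c)⁻¹))
          = ∑ c : C, ∑ γ : IrrCharacter C,
              (mult ι χ γ : ℂ) * (γ : C → ℂ) (x * (c * y * c⁻¹)) :=
            Finset.sum_congr rfl fun c _ => by
              rw [← map_inv, ← map_mul, ← map_mul, ← map_mul, restrict_eq]
        _ = _ := by
            rw [Finset.sum_comm]
            exact Finset.sum_congr rfl fun γ _ => by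
              rw [← Finset.mul_sum, Block.sum_char_mul_conj γ.2]
    simp only [f, sum_triple, h1, Char.irr_inv β.2, Char.irr_inv β'.2]
    have h4 : ∀ F : C → C → IrrCharacter C → ℂ, ∀ u v : C → ℂ,
        ∑ x : C, ∑ y : C, (∑ γ, F x y γ) * u x * v y =
          ∑ γ, ∑ x : C, ∑ y : C, F x y γ * u x * v y := by
      intro F u v
      simp only [Finset.sum_mul]
      exact (Finset.sum_congr rfl fun x _ => Finset.sum_comm).trans Finset.sum_comm
    rw [h4]
    rw [Finset.sum_congr rfl (g := fun γ : IrrCharacter C =>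
      (mult ι χ γ : ℂ) * (Nat.card C : ℂ) ^ 3 / (γ : C → ℂ) 1 *
        (classInner (γ : C → ℂ) (β : C → ℂ) * classInner (γ : C → ℂ) (β' : C → ℂ)))
      (fun γ _ => ?_)]
    · simp only [Char.classInner_irrCharacter, ite_mul, one_mul, zero_mul, mul_ite, mul_zero,
        Finset.sum_ite_eq', Finset.mem_univ, if_true]
      by_cases hbb : β = β'
      · rw [if_pos hbb.symm, if_pos hbb, ← hbb, hb]
        have hb0 : (b : ℂ) ≠ 0 := hb ▸ Char.irr_one_ne_zero β.2
        push_cast
        field_simp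
      · rw [if_neg (Ne.symm hbb), if_neg hbb, Nat.cast_zero]
    · have h3 : (Nat.card C : ℂ) ^ 2 *
          (classInner (γ : C → ℂ) (β : C → ℂ) * classInner (γ : C → ℂ) (β' : C → ℂ)) =
          ∑ x : C, ∑ y : C, ((γ : C → ℂ) x * conj ((β : C → ℂ) x)) *
            ((γ : C → ℂ) y * conj ((β' : C → ℂ) y)) := by
        rw [← Finset.sum_mul_sum, Char.sum_mul_conj_eq_card_mul_classInner,
          Char.sum_mul_conj_eq_card_mul_classInner]
        ring
      rw [show (mult ι χ γ : ℂ) * (Nat.card C : ℂ) ^ 3 / (γ : C → ℂ) 1 *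
          (classInner (γ : C → ℂ) (β : C → ℂ) * classInner (γ : C → ℂ) (β' : C → ℂ)) =
          (mult ι χ γ : ℂ) * (Nat.card C : ℂ) / (γ : C → ℂ) 1 * ((Nat.card C : ℂ) ^ 2 *
          (classInner (γ : C → ℂ) (β : C → ℂ) * classInner (γ : C → ℂ) (β' : C → ℂ)))
        from by ring, h3, Finset.mul_sum]
      refine Finset.sum_congr rfl fun x _ => ?_
      rw [Finset.mul_sum]
      exact Finset.sum_congr rfl fun y _ => by ring
  have key := cong_sum (p := p) hA hι hint hinv (hG.trans (Int.cast_natCast _).symm)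
    (hCsum.trans (Int.cast_natCast _).symm)
  rw [Int.cast_natCast, Int.cast_natCast, apply_ite (Nat.cast : ℕ → ZMod p)] at key
  push_cast at key
  rw [cong_card hA hι] at key
  apply mul_left_cancel₀ (pow_ne_zero 3 hC)
  rw [mul_ite, mul_zero]
  convert key using 1
  · ring
  · split_ifs <;> ring

/-- Inner products of invariant characters, modulo `p`. -/
theorem inner_rel (hA : IsPGroup p A) (hι : IsFixedEmb φ ι) (hpG : ¬ p ∣ Nat.card G)
    {χ χ' : IrrCharacter G} (hχ : IsInv φ (χ : G → ℂ)) (hχ' : IsInv φ (χ' : G → ℂ))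
    [Decidable (χ = χ')] :
    ∑ γ : IrrCharacter C, (mult ι χ γ : ZMod p) * mult ι χ' γ = if χ = χ' then 1 else 0 := by
  classical
  have hC : (Nat.card C : ZMod p) ≠ 0 := natCast_ne_zero_of_dvd hpG (card_dvd hι)
  let f : G → ℂ := fun g => (χ : G → ℂ) g * (χ' : G → ℂ) g⁻¹
  have hint : ∀ g, IsIntegral ℤ (f g) := fun g =>
    (Char.isCharacter_isIntegral (Char.isCharacter_of_irr χ.2) _).mul
      (Char.isCharacter_isIntegral (Char.isCharacter_of_irr χ'.2) _)
  have hinv : IsInv φ f := fun a g => by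
    show _ * _ = _ * _
    rw [← map_inv, hχ, hχ']
  have hG : ∑ g, f g = ((if χ = χ' then Nat.card G else 0 : ℕ) : ℂ) := by
    simp only [f, Char.irr_inv χ'.2, Char.sum_mul_conj_eq_card_mul_classInner,
      Char.classInner_irrCharacter]
    split_ifs <;> simp
  have hCsum : ∑ c, f (ι c) =
      ((Nat.card C * ∑ γ : IrrCharacter C, mult ι χ γ * mult ι χ' γ : ℕ) : ℂ) := by
    simp only [f, Char.irr_inv χ'.2]
    rw [Char.sum_mul_conj_eq_card_mul_classInner (fun c => (χ : G → ℂ) (ι c))
      (fun c => (χ' : G → ℂ) (ι c)), Char.classInner_eq_sum_mul_conj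
        (Char.isCharacter_isClassFunction (Char.isCharacter_comp (Char.isCharacter_of_irr χ.2) ι) :
          IsClassFunction C fun c => (χ : G → ℂ) (ι c))]
    simp [mult_spec]
  have key := cong_sum (p := p) hA hι hint hinv (hG.trans (Int.cast_natCast _).symm)
    (hCsum.trans (Int.cast_natCast _).symm)
  rw [Int.cast_natCast, Int.cast_natCast, apply_ite (Nat.cast : ℕ → ZMod p)] at key
  push_cast at key
  rw [cong_card hA hι] at key
  apply mul_left_cancel₀ hC
  rw [← key]
  split_ifs <;> simp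

/-- The correspondent of an invariant character. -/
theorem exists_corr (hA : IsPGroup p A) (hι : IsFixedEmb φ ι) (hpG : ¬ p ∣ Nat.card G)
    {χ : IrrCharacter G} (hχ : IsInv φ (χ : G → ℂ)) :
    ∃ β : IrrCharacter C, ((mult ι χ β : ZMod p) = 1 ∨ (mult ι χ β : ZMod p) = -1) ∧
      ∀ β', β' ≠ β → (mult ι χ β' : ZMod p) = 0 := by
  classical
  obtain ⟨d, -, hd, hdG⟩ := Char.irr_degree_dvd_card χ.2
  obtain ⟨β, hβ⟩ : ∃ β, (mult ι χ β : ZMod p) ≠ 0 := by
    by_contra hcon
    simp only [not_exists, not_not] at hcon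
    choose b _ hb _ using fun γ : IrrCharacter C => Char.irr_degree_dvd_card γ.2
    have h := restrict_eq ι χ 1
    rw [map_one, hd] at h
    simp only [hb] at h
    have h' : d = ∑ γ : IrrCharacter C, mult ι χ γ * b γ := by exact_mod_cast h
    refine natCast_ne_zero_of_dvd hpG hdG ?_
    rw [h']
    push_cast
    simp [hcon]
  have huniq : ∀ β', β' ≠ β → (mult ι χ β' : ZMod p) = 0 := by
    intro β' hne
    obtain ⟨b, -, hb, hbC⟩ := Char.irr_degree_dvd_card β.2
    have h := mult_rel hA hι hpG hχ β β' hd hb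
    rw [if_neg (Ne.symm hne)] at h
    exact (mul_eq_zero.1 h).resolve_left
      (mul_ne_zero (natCast_ne_zero_of_dvd hpG (hbC.trans (card_dvd hι))) hβ)
  refine ⟨β, ?_, huniq⟩
  have h := inner_rel hA hι hpG hχ hχ
  rw [if_pos rfl, Finset.sum_eq_single β (fun γ _ hne => by rw [huniq γ hne, zero_mul])
    (fun h => absurd (Finset.mem_univ β) h)] at h
  exact mul_self_eq_one_iff.1 h

theorem corr_injective (hA : IsPGroup p A) (hι : IsFixedEmb φ ι) (hpG : ¬ p ∣ Nat.card G)
    {χ χ' : IrrCharacter G} (hχ : IsInv φ (χ : G → ℂ)) (hχ' : IsInv φ (χ' : G → ℂ))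
    {β : IrrCharacter C} (h : (mult ι χ β : ZMod p) ≠ 0) (h' : (mult ι χ' β : ZMod p) ≠ 0) :
    χ = χ' := by
  classical
  by_contra hne
  obtain ⟨β₀, -, hu⟩ := exists_corr hA hι hpG hχ
  have hβ : β = β₀ := by
    by_contra hb; exact h (hu β hb)
  have := inner_rel hA hι hpG hχ hχ'
  rw [if_neg hne, Finset.sum_eq_single β (fun γ _ hg => by rw [hu γ (hβ ▸ hg), zero_mul])
    (fun h => absurd (Finset.mem_univ β) h)] at this
  exact mul_ne_zero h h' this

theorem corr_surjective (hA : IsPGroup p A) (hι : IsFixedEmb φ ι) (hpG : ¬ p ∣ Nat.card G)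
    (β : IrrCharacter C) :
    ∃ χ : IrrCharacter G, IsInv φ (χ : G → ℂ) ∧ (mult ι χ β : ZMod p) ≠ 0 := by
  classical
  letI : MulAction A (IrrCharacter G) :=
    { smul := fun a χ => ⟨fun g => (χ : G → ℂ) (φ a⁻¹ g),
        Char.isIrrCharacter_comp_mulEquiv χ.2 (φ a⁻¹)⟩
      one_smul := fun χ => by
        apply Subtype.ext
        funext g
        show (χ : G → ℂ) (φ 1⁻¹ g) = _
        simp
      mul_smul := fun a a' χ => by
        apply Subtype.ext
        funext g
        show (χ : G → ℂ) (φ (a * a')⁻¹ g) = (χ : G → ℂ) (φ a'⁻¹ (φ a⁻¹ g))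
        simp }
  have hsmul : ∀ (a : A) (χ : IrrCharacter G) (g : G),
      ((a • χ : IrrCharacter G) : G → ℂ) g = (χ : G → ℂ) (φ a⁻¹ g) := fun _ _ _ => rfl
  choose d _ hd hdG using fun χ : IrrCharacter G => Char.irr_degree_dvd_card χ.2
  obtain ⟨b, -, hb, hbC⟩ := Char.irr_degree_dvd_card β.2
  have hsum : Nat.card C * ∑ χ : IrrCharacter G, d χ * mult ι χ β = Nat.card G * b := by
    apply Nat.cast_injective (R := ℂ)
    push_cast
    rw [Finset.mul_sum]
    simp only [← hd, ← hb]
    calc ∑ χ : IrrCharacter G, (Nat.card C : ℂ) * ((χ : G → ℂ) 1 * mult ι χ β)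
        = ∑ χ : IrrCharacter G, ∑ x : C,
            ((χ : G → ℂ) 1 * (χ : G → ℂ) (ι x)) * conj ((β : C → ℂ) x) :=
          Finset.sum_congr rfl fun χ _ => by
            rw [show (Nat.card C : ℂ) * ((χ : G → ℂ) 1 * mult ι χ β) =
              (χ : G → ℂ) 1 * ((Nat.card C : ℂ) * mult ι χ β) from by ring,
              ← sum_restrict_conj, Finset.mul_sum]
            exact Finset.sum_congr rfl fun x _ => by ring
      _ = ∑ x : C, (if ι x = 1 then (Nat.card G : ℂ) else 0) * conj ((β : C → ℂ) x) := by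
          rw [Finset.sum_comm]
          exact Finset.sum_congr rfl fun x _ => by
            rw [← Finset.sum_mul, Char.sum_irr_degree_mul]
      _ = (Nat.card G : ℂ) * (β : C → ℂ) 1 := by
          rw [Finset.sum_eq_single (1 : C)]
          · rw [if_pos (map_one ι), ← Char.irr_inv β.2, inv_one]
          · intro x _ hx
            rw [if_neg (fun h => hx (hι.1 (h.trans (map_one ι).symm))), zero_mul]
          · simp
  have hF := Block.sum_eq_sum_fixedPoints (R := ZMod p) (p := p) hA (X := IrrCharacter G)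
    (fun χ => ((d χ * mult ι χ β : ℕ) : ZMod p)) (fun a χ => by
      have h1 : d (a • χ) = d χ := by
        have h0 := hd (a • χ)
        rw [hsmul, map_one, hd χ] at h0
        exact_mod_cast h0.symm
      have h2 : mult ι (a • χ) β = mult ι χ β := by
        refine mult_eq ι ?_
        simp only [hsmul, fix_apply hι]
        exact mult_spec ι χ β
      rw [h1, h2])
  have hz := congrArg (Nat.cast : ℕ → ZMod p) hsum
  push_cast at hz hF
  rw [hF, cong_card hA hι] at hz
  have hC : (Nat.card C : ZMod p) ≠ 0 := natCast_ne_zero_of_dvd hpG (card_dvd hι)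
  have hne := natCast_ne_zero_of_dvd (p := p) hpG (hbC.trans (card_dvd hι))
  rw [← mul_left_cancel₀ hC hz] at hne
  obtain ⟨χ, hχ, hχne⟩ := Finset.exists_ne_zero_of_sum_ne_zero hne
  refine ⟨χ, fun a g => ?_, right_ne_zero_of_mul hχne⟩
  have h3 := congrFun (congrArg Subtype.val ((Finset.mem_filter.1 hχ).2 a⁻¹)) g
  rw [hsmul, inv_inv] at h3
  exact h3

/-- When `ι` is surjective, restriction is bijective. -/
theorem mult_of_surjective (hι : IsFixedEmb φ ι) (hs : Function.Surjective ι)
    (χ : IrrCharacter G) (β : IrrCharacter C) [Decidable ((χ : G → ℂ) ∘ ι = (β : C → ℂ))] :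
    mult ι χ β = if (χ : G → ℂ) ∘ ι = (β : C → ℂ) then 1 else 0 := by
  refine mult_eq ι ?_
  show classInner ((χ : G → ℂ) ∘ ι) _ = _
  rw [Char.classInner_irr (Char.isIrrCharacter_comp χ.2 ι hs) β.2]
  split_ifs <;> simp

/-! ### Classes -/

theorem map_injective (hA : IsPGroup p A) (hι : IsFixedEmb φ ι) (hpG : ¬ p ∣ Nat.card G) :
    Function.Injective (ConjClasses.map ι) := by
  rintro ⟨x⟩ ⟨y⟩ h
  change ConjClasses.mk (ι x) = ConjClasses.mk (ι y) at h
  show ConjClasses.mk x = ConjClasses.mk y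
  obtain ⟨g₀, hg₀⟩ := isConj_iff.1 (ConjClasses.mk_eq_mk_iff_isConj.1 h)
  rw [ConjClasses.mk_eq_mk_iff_isConj, isConj_iff]
  have hn : ¬ p ∣ Nat.card {g // g * ι x * g⁻¹ = ι y} := by
    intro hdvd
    refine hpG (hdvd.trans ?_)
    have e : {g // g * ι x * g⁻¹ = ι y} ≃ Subgroup.centralizer ({ι x} : Set G) :=
      (Equiv.mulLeft g₀⁻¹).subtypeEquiv fun g => by
        rw [Subgroup.mem_centralizer_singleton_iff, ← hg₀]
        show g * ι x * g⁻¹ = g₀ * ι x * g₀⁻¹ ↔ g₀⁻¹ * g * ι x = ι x * (g₀⁻¹ * g)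
        constructor
        · intro hg
          calc g₀⁻¹ * g * ι x = g₀⁻¹ * (g * ι x * g⁻¹) * g := by group
            _ = g₀⁻¹ * (g₀ * ι x * g₀⁻¹) * g := by rw [hg]
            _ = ι x * (g₀⁻¹ * g) := by group
        · intro hg
          calc g * ι x * g⁻¹ = g₀ * (g₀⁻¹ * g * ι x) * g⁻¹ := by group
            _ = g₀ * (ι x * (g₀⁻¹ * g)) * g⁻¹ := by rw [hg]
            _ = g₀ * ι x * g₀⁻¹ := by group
    rw [Nat.card_congr e]
    exact Subgroup.card_subgroup_dvd_card _
  obtain ⟨c, hc⟩ := exists_fixed hA hι (P := fun g => g * ι x * g⁻¹ = ι y)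
    (fun a g hg => by
      have := congrArg (φ a) hg
      rwa [map_mul, map_mul, map_inv, fix_apply hι, fix_apply hι] at this) hn
  exact ⟨c, hι.1 (by simpa using hc)⟩

theorem exists_map_eq (hA : IsPGroup p A) (hι : IsFixedEmb φ ι) (hpG : ¬ p ∣ Nat.card G)
    {K : ConjClasses G} (hK : ∀ (a : A) g, ConjClasses.mk g = K → ConjClasses.mk (φ a g) = K) :
    ∃ L : ConjClasses C, ConjClasses.map ι L = K := by
  classical
  obtain ⟨g, rfl⟩ := ConjClasses.mk_surjective K
  have hn : ¬ p ∣ Nat.card {x : G // ConjClasses.mk x = ConjClasses.mk g} := by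
    intro hdvd
    refine hpG (hdvd.trans ?_)
    have e : Nat.card {x : G // ConjClasses.mk x = ConjClasses.mk g} =
        (Finset.univ.filter fun x : G => IsConj g x).card := by
      rw [Nat.card_eq_fintype_card, Fintype.card_subtype]
      congr 1
      ext x
      simp only [Finset.mem_filter, Finset.mem_univ, true_and,
        ConjClasses.mk_eq_mk_iff_isConj]
      exact ⟨IsConj.symm, IsConj.symm⟩
    rw [e]
    refine Dvd.intro (Nat.card (Subgroup.centralizer ({g} : Set G))) ?_
    convert Char.card_isConj_mul_card_centralizer g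
  obtain ⟨c, hc⟩ := exists_fixed hA hι
    (P := fun x => ConjClasses.mk x = ConjClasses.mk g) hK hn
  exact ⟨ConjClasses.mk c, hc⟩

/-! ### Solvable operator groups -/

theorem classInner_comp_equiv {H : Type*} [Group H] [Fintype H] (τ : H ≃* H) (a b : H → ℂ) :
    classInner (fun x => a (τ x)) (fun x => b (τ x)) = classInner a b := by
  unfold classInner
  congr 1
  exact Fintype.sum_equiv τ.toEquiv _ _ fun x => rfl

/-- Equivariance of the multiplicities. -/
theorem mult_comp (σ : MulAut G) (τ : MulAut C) (hc : ∀ c, σ (ι c) = ι (τ c))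
    {χ χ' : IrrCharacter G} {β β' : IrrCharacter C} (hχ : ∀ g, (χ' : G → ℂ) g = (χ : G → ℂ) (σ g))
    (hβ : ∀ c, (β' : C → ℂ) c = (β : C → ℂ) (τ c)) : mult ι χ' β' = mult ι χ β := by
  refine mult_eq ι ?_
  simp only [hχ, hc]
  rw [show (β' : C → ℂ) = fun c => (β : C → ℂ) (τ c) from funext hβ,
    classInner_comp_equiv τ (fun c => (χ : G → ℂ) (ι c)), mult_spec]

end Cfsg.Agent.Glauberman
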