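import Cfsg.Agent.Char.GlaubermanSolv
import Cfsg.Agent.CharExt.Inertia

/-!
# Invariant constituents of induced characters under solvable coprime operators
-/

set_option autoImplicit false
set_option linter.style.haveILetI false
set_option linter.unusedSectionVars false

namespace Cfsg.Agent.Glauberman

open Cfsg Cfsg.Agent

universe u v w

section Mult

variable {G : Type u} [Group G] [Fintype G] {C : Type v} [Group C] [Fintype C]
variable {D : Type w} [Group D] [Fintype D]

theorem mult_comp_hom (ι : C →* G) (κ : D →* C) (χ : IrrCharacter G) (δ : IrrCharacter D) :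
    mult (ι.comp κ) χ δ = ∑ γ : IrrCharacter C, mult ι χ γ * mult κ γ δ := by
  refine mult_eq (ι.comp κ) ?_
  have e : (fun d => (χ : G → ℂ) ((ι.comp κ) d)) =
      ∑ γ : IrrCharacter C, (mult ι χ γ : ℂ) • fun d => (γ : C → ℂ) (κ d) := by
    funext d
    simp only [MonoidHom.comp_apply, Finset.sum_apply, Pi.smul_apply, smul_eq_mul]
    exact restrict_eq ι χ (κ d)
  rw [e, Char.classInner_sum_left]
  push_cast
  exact Finset.sum_congr rfl fun γ _ => by rw [Char.classInner_smul_left, mult_spec]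

/-- A nonzero multiplicity in a normal subgroup divides the degree. -/
theorem mult_dvd_degree (R : Subgroup G) [R.Normal] [Fintype R] (χ : IrrCharacter G)
    (θ : IrrCharacter R) (h : mult R.subtype χ θ ≠ 0) {d : ℕ} (hd : (χ : G → ℂ) 1 = d) :
    mult R.subtype χ θ ∣ d := by
  obtain ⟨e, -, he, -, hdeg⟩ := CharExt.clifford_data R χ.2 θ.2 (by
    show classInner (fun r : R => (χ : G → ℂ) (R.subtype r)) _ ≠ 0
    rw [mult_spec]; exact_mod_cast h)
  obtain ⟨b, -, hb⟩ := Char.irr_one_pos θ.2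
  have hem : mult R.subtype χ θ = e := mult_eq _ he
  rw [hd, hb] at hdeg
  exact hem ▸ ⟨(CharExt.inertia R (θ : R → ℂ)).index * b,
    by rw [← mul_assoc]; exact_mod_cast hdeg⟩

end Mult

/-- Inductive statement: an invariant character of an invariant normal subgroup lies under an
invariant character. -/
theorem exists_inv_over_aux (n : ℕ) : ∀ (G : Type u) [Group G] [Fintype G]
    (A : Subgroup (MulAut G)) (N : Subgroup G) [N.Normal] [Fintype N], Nat.card A ≤ n →
    Group.IsSolvable A → (Nat.card G).Coprime (Nat.card A) →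
    ∀ (hAN : ∀ a ∈ A, ∀ x ∈ N, a x ∈ N) (θ : IrrCharacter N),
    (∀ (a : MulAut G) (ha : a ∈ A) (x : N),
      (θ : N → ℂ) ⟨a x, hAN a ha x x.2⟩ = (θ : N → ℂ) x) →
    ∃ χ : IrrCharacter G, (∀ a ∈ A, ∀ g, (χ : G → ℂ) (a g) = (χ : G → ℂ) g) ∧
      mult N.subtype χ θ ≠ 0 := by
  induction n using Nat.strong_induction_on with
  | _ n ih =>
  intro G _ _ A N _ _ hn hsolv hcop hAN θ hθ
  classical
  haveI : Finite (MulAut G) := Finite.of_injective (fun e : MulAut G => (e : G → G))
    DFunLike.coe_injective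
  rcases subsingleton_or_nontrivial A with hA | hA
  · have h1 : ∀ a ∈ A, a = 1 := fun a ha =>
      congrArg Subtype.val (Subsingleton.elim (⟨a, ha⟩ : A) 1)
    obtain ⟨χ, hχ⟩ : ∃ χ : IrrCharacter G, mult N.subtype χ θ ≠ 0 := by
      by_contra hcon
      simp only [not_exists, not_not] at hcon
      have hz : ∀ χ : IrrCharacter G,
          ∑ x : N, (χ : G → ℂ) x * starRingEnd ℂ ((θ : N → ℂ) x) = 0 := fun χ => by
        have := sum_restrict_conj N.subtype χ θ
        rw [hcon χ, Nat.cast_zero, mul_zero] at this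
        exact this
      have h2 : ∑ x : N, (∑ χ : IrrCharacter G, (χ : G → ℂ) 1 * (χ : G → ℂ) x) *
          starRingEnd ℂ ((θ : N → ℂ) x) = 0 := by
        simp only [Finset.sum_mul]
        rw [Finset.sum_comm]
        refine Finset.sum_eq_zero fun χ _ => ?_
        simp only [mul_assoc, ← Finset.mul_sum, hz, mul_zero]
      simp only [Char.sum_irr_degree_mul] at h2
      rw [Finset.sum_eq_single (1 : N), if_pos (OneMemClass.coe_one N), mul_eq_zero,
        map_eq_zero] at h2
      · exact absurd (h2.resolve_left (Nat.cast_ne_zero.2 Nat.card_pos.ne'))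
          (Char.irr_one_ne_zero θ.2)
      · intro x _ hx
        rw [if_neg (fun h : (x : G) = 1 => hx (Subtype.ext h)), zero_mul]
      · simp
    exact ⟨χ, fun a ha g => by rw [h1 a ha]; rfl, hχ⟩
  haveI := hsolv
  obtain ⟨p, T, hp, hTn, hTp, hTne, -⟩ := Coprime.exists_normal_pGroup_of_isSolvable A
  haveI : Fact p.Prime := ⟨hp⟩
  set φ : T →* MulAut G := A.subtype.comp T.subtype with hφ
  set D : Subgroup G := fixedOf (Set.range φ) with hD
  letI := Fintype.ofFinite D
  have hι : IsFixedEmb φ D.subtype := by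
    refine ⟨D.subtype_injective, fun g => ?_⟩
    constructor
    · rintro ⟨c, rfl⟩ t
      exact c.2 _ ⟨t, rfl⟩
    · intro h
      exact ⟨⟨g, by rintro _ ⟨t, rfl⟩; exact h t⟩, rfl⟩
  have hpG : ¬ p ∣ Nat.card G := by
    intro hd
    obtain ⟨k, hk⟩ := hTp.exists_card_eq
    have hk0 : k ≠ 0 := fun h => hTne (T.eq_bot_of_card_eq (by rw [hk, h, pow_zero]))
    have hpA : p ∣ Nat.card A :=
      ((dvd_pow_self p hk0).trans hk.symm.dvd).trans (Subgroup.card_subgroup_dvd_card T)
    exact hp.not_dvd_one (hcop ▸ Nat.dvd_gcd hd hpA)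
  have hpN : ¬ p ∣ Nat.card N := fun h => hpG (h.trans (Subgroup.card_subgroup_dvd_card N))
  -- the operators on `N`
  let ψ : T →* MulAut N :=
    { toFun := fun t =>
        { toFun := fun x => ⟨φ t x, hAN _ (t : A).2 x x.2⟩
          invFun := fun x => ⟨φ t⁻¹ x, hAN _ ((t⁻¹ : T) : A).2 x x.2⟩
          left_inv := fun x => Subtype.ext (by simp)
          right_inv := fun x => Subtype.ext (by simp)
          map_mul' := fun x y => Subtype.ext (map_mul (φ t) (x : G) y) }
      map_one' := by ext x; simp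
      map_mul' := fun s t => by ext x; simp }
  set R : Subgroup D := N.subgroupOf D with hR
  letI := Fintype.ofFinite R
  haveI : R.Normal := Subgroup.normal_subgroupOf
  let κ : R →* N :=
    { toFun := fun r => ⟨((r : D) : G), r.2⟩, map_one' := rfl, map_mul' := fun _ _ => rfl }
  have hκ : IsFixedEmb ψ κ := by
    refine ⟨fun r r' h => Subtype.ext (Subtype.ext (congrArg Subtype.val h :)), fun x => ?_⟩
    constructor
    · rintro ⟨r, rfl⟩ t
      exact Subtype.ext ((r : D).2 _ ⟨t, rfl⟩)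
    · intro h
      refine ⟨⟨⟨x, ?_⟩, x.2⟩, rfl⟩
      rintro _ ⟨t, rfl⟩
      exact congrArg Subtype.val (h t)
  have hθT : IsInv ψ (θ : N → ℂ) := fun t x => hθ _ (t : A).2 x
  obtain ⟨θ', hθ'1, hθ'u⟩ := exists_corr hTp hκ hpN hθT
  have hθ'0 : (mult κ θ θ' : ZMod p) ≠ 0 := by
    rcases hθ'1 with h | h <;> rw [h]
    exacts [one_ne_zero, neg_ne_zero.2 one_ne_zero]
  -- operators on `D`
  have hpres : ∀ (a : A) (g : G), g ∈ D → (a : MulAut G) g ∈ D := by
    rintro a g hg _ ⟨t, rfl⟩
    have ht : a⁻¹ * (t : A) * a ∈ T := by simpa using hTn.conj_mem _ t.2 a⁻¹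
    have h := hg _ ⟨⟨_, ht⟩, rfl⟩
    have h2 := congrArg (a : MulAut G) h
    simpa [hφ, MulAut.mul_apply] using h2
  let ρ : A →* MulAut D :=
    { toFun := fun a =>
        { toFun := fun c => ⟨(a : MulAut G) c, hpres a c c.2⟩
          invFun := fun c => ⟨((a⁻¹ : A) : MulAut G) c, hpres a⁻¹ c c.2⟩
          left_inv := fun c => Subtype.ext (by simp)
          right_inv := fun c => Subtype.ext (by simp)
          map_mul' := fun c c' => Subtype.ext (map_mul (a : MulAut G) (c : G) c') }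
      map_one' := by ext c; rfl
      map_mul' := fun a b => by ext c; rfl }
  have hker : (T : Subgroup A) ≤ ρ.ker := by
    intro t ht
    rw [MonoidHom.mem_ker]
    ext c
    exact c.2 _ ⟨⟨t, ht⟩, rfl⟩
  haveI : Finite (MulAut D) := Finite.of_injective (fun e : MulAut D => (e : D → D))
    DFunLike.coe_injective
  have hcardA : Nat.card ρ.range * Nat.card ρ.ker = Nat.card A := by
    rw [← Nat.card_congr (QuotientGroup.quotientKerEquivRange ρ).toEquiv]
    exact (Subgroup.card_eq_card_quotient_mul_card_subgroup ρ.ker).symm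
  have hlt : Nat.card ρ.range < n := by
    refine lt_of_lt_of_le ?_ hn
    rw [← hcardA]
    exact lt_mul_of_one_lt_right Nat.card_pos
      (((Subgroup.one_lt_card_iff_ne_bot T).2 hTne).trans_le (Subgroup.card_le_of_le hker))
  have hcop' : (Nat.card D).Coprime (Nat.card ρ.range) :=
    (hcop.coprime_dvd_left (Subgroup.card_subgroup_dvd_card D)).coprime_dvd_right
      (Dvd.intro _ hcardA)
  have hρR : ∀ b ∈ ρ.range, ∀ x ∈ R, b x ∈ R := by
    rintro _ ⟨a, rfl⟩ x hx
    exact hAN _ a.2 _ hx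
  have hθ'inv : ∀ (b : MulAut D) (hb : b ∈ ρ.range) (x : R),
      (θ' : R → ℂ) ⟨b x, hρR b hb x x.2⟩ = (θ' : R → ℂ) x := by
    rintro _ ⟨a, rfl⟩ x
    let σ : MulAut N :=
      { toFun := fun y => ⟨(a : MulAut G) y, hAN _ a.2 y y.2⟩
        invFun := fun y => ⟨((a⁻¹ : A) : MulAut G) y, hAN _ (a⁻¹ : A).2 y y.2⟩
        left_inv := fun y => Subtype.ext (by simp)
        right_inv := fun y => Subtype.ext (by simp)
        map_mul' := fun y z => Subtype.ext (map_mul (a : MulAut G) (y : G) z) }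
    let τ : MulAut R :=
      { toFun := fun y => ⟨ρ a y, hρR _ ⟨a, rfl⟩ y y.2⟩
        invFun := fun y => ⟨ρ a⁻¹ y, hρR _ ⟨a⁻¹, rfl⟩ y y.2⟩
        left_inv := fun y => Subtype.ext (Subtype.ext (by simp [ρ]))
        right_inv := fun y => Subtype.ext (Subtype.ext (by simp [ρ]))
        map_mul' := fun y z => Subtype.ext (map_mul (ρ a) (y : D) z) }
    let θ'' : IrrCharacter R := ⟨_, Char.isIrrCharacter_comp_mulEquiv θ'.2 τ⟩
    have h1 : mult κ θ θ'' = mult κ θ θ' :=
      mult_comp σ τ (fun r => rfl) (fun y => (hθ _ a.2 y).symm) (fun _ => rfl)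
    have h2 : θ'' = θ' := by
      by_contra hb
      exact hθ'0 (h1 ▸ hθ'u θ'' hb)
    exact congrFun (congrArg Subtype.val h2) x
  obtain ⟨β, hβinv, hβ⟩ := ih _ hlt D ρ.range R le_rfl
    (Group.isSolvable_of_surjective ρ.rangeRestrict_surjective) hcop' hρR θ' hθ'inv
  have hβp : (mult R.subtype β θ' : ZMod p) ≠ 0 := by
    obtain ⟨b, -, hb, hbD⟩ := Char.irr_degree_dvd_card β.2
    exact natCast_ne_zero_of_dvd hpG
      ((mult_dvd_degree R β θ' hβ hb).trans (hbD.trans (Subgroup.card_subgroup_dvd_card D)))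
  obtain ⟨χ, hχ, hm⟩ := corr_surjective hTp hι hpG β
  obtain ⟨β₀, -, hu⟩ := exists_corr hTp hι hpG hχ
  have hu' : ∀ γ, γ ≠ β → (mult D.subtype χ γ : ZMod p) = 0 := by
    have : β = β₀ := by
      by_contra hb
      exact hm (hu β hb)
    subst this
    exact hu
  refine ⟨χ, fun a ha g => ?_, ?_⟩
  · let χ' : IrrCharacter G := ⟨_, Char.isIrrCharacter_comp_mulEquiv χ.2 (a : MulAut G)⟩
    have hχ' : IsInv φ (χ' : G → ℂ) := by
      intro t x
      show (χ : G → ℂ) (a (φ t x)) = (χ : G → ℂ) (a x)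
      have ht : (⟨a, ha⟩ : A) * (t : A) * (⟨a, ha⟩ : A)⁻¹ ∈ T := hTn.conj_mem _ t.2 _
      rw [← hχ ⟨_, ht⟩ (a x)]
      congr 1
      simp [hφ, MulAut.mul_apply]
    have h1 : mult D.subtype χ' β = mult D.subtype χ β :=
      mult_comp a (ρ ⟨a, ha⟩) (fun _ => rfl) (fun _ => rfl)
        (fun c => (hβinv _ ⟨_, rfl⟩ c).symm)
    exact congrFun (congrArg Subtype.val
      (corr_injective hTp hι hpG hχ' hχ (h1 ▸ hm) hm)) g
  · -- compare the two ways of restricting to `R`
    intro h0
    have e : D.subtype.comp R.subtype = N.subtype.comp κ := rfl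
    have key := mult_comp_hom D.subtype R.subtype χ θ'
    rw [e, mult_comp_hom N.subtype κ χ θ'] at key
    have key' := congrArg (Nat.cast : ℕ → ZMod p) key
    push_cast at key'
    rw [Finset.sum_eq_single β (fun γ _ hg => by rw [hu' γ hg, zero_mul])
      (fun h => absurd (Finset.mem_univ β) h)] at key'
    apply mul_ne_zero hm hβp
    rw [← key']
    letI : MulAction T (IrrCharacter N) :=
      { smul := fun t γ => ⟨fun x => (γ : N → ℂ) (ψ t⁻¹ x),
          Char.isIrrCharacter_comp_mulEquiv γ.2 (ψ t⁻¹)⟩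
        one_smul := fun γ => by
          apply Subtype.ext
          funext x
          show (γ : N → ℂ) (ψ 1⁻¹ x) = _
          simp
        mul_smul := fun s t γ => by
          apply Subtype.ext
          funext x
          show (γ : N → ℂ) (ψ (s * t)⁻¹ x) = (γ : N → ℂ) (ψ t⁻¹ (ψ s⁻¹ x))
          simp }
    have hsmul : ∀ (t : T) (γ : IrrCharacter N) (x : N),
        ((t • γ : IrrCharacter N) : N → ℂ) x = (γ : N → ℂ) (ψ t⁻¹ x) := fun _ _ _ => rfl
    rw [Block.sum_eq_sum_fixedPoints (p := p) hTp (X := IrrCharacter N)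
      (fun γ => (mult N.subtype χ γ : ZMod p) * mult κ γ θ') (fun t γ => ?_)]
    · refine Finset.sum_eq_zero fun γ hγ => ?_
      by_cases hne : (mult κ γ θ' : ZMod p) = 0
      · rw [hne, mul_zero]
      have hinv : IsInv ψ (γ : N → ℂ) := fun t x => by
        have := congrFun (congrArg Subtype.val ((Finset.mem_filter.1 hγ).2 t⁻¹)) x
        rwa [hsmul, inv_inv] at this
      rw [corr_injective hTp hκ hpN hinv hθT hne hθ'0, h0, Nat.cast_zero, zero_mul]
    · have h2 : mult κ (t • γ) θ' = mult κ γ θ' := by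
        refine mult_eq κ ?_
        simp only [hsmul, fix_apply hκ]
        exact mult_spec κ γ θ'
      have h3 : mult N.subtype χ (t • γ) = mult N.subtype χ γ :=
        mult_comp (φ t⁻¹) (ψ t⁻¹) (fun _ => rfl) (fun g => (hχ t⁻¹ g).symm) (fun x => hsmul t γ x)
      show (mult N.subtype χ (t • γ) : ZMod p) * mult κ (t • γ) θ' = _
      rw [h2, h3]

/-- An invariant character of an invariant normal subgroup lies under an invariant character, for
solvable operators of coprime order. -/
theorem exists_inv_over {G : Type u} [Group G] [Fintype G] (A : Subgroup (MulAut G))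
    (N : Subgroup G) [N.Normal] [Fintype N] (hs : Group.IsSolvable A)
    (hcop : (Nat.card G).Coprime (Nat.card A)) (hAN : ∀ a ∈ A, ∀ x ∈ N, a x ∈ N)
    (θ : IrrCharacter N)
    (hθ : ∀ (a : MulAut G) (ha : a ∈ A) (x : N),
      (θ : N → ℂ) ⟨a x, hAN a ha x x.2⟩ = (θ : N → ℂ) x) :
    ∃ χ : IrrCharacter G, (∀ a ∈ A, ∀ g, (χ : G → ℂ) (a g) = (χ : G → ℂ) g) ∧
      mult N.subtype χ θ ≠ 0 :=
  exists_inv_over_aux _ G A N le_rfl hs hcop hAN θ hθ

end Cfsg.Agent.Glauberman
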