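import Cfsg.Agent.Char.Glauberman

/-!
# Coprime solvable operators: invariant characters and invariant classes are equal in number
-/

set_option autoImplicit false
set_option linter.style.haveILetI false
set_option linter.unusedSectionVars false

namespace Cfsg.Agent.Glauberman

open Cfsg Cfsg.Agent

universe u

variable {G : Type u} [Group G] [Finite G]

/-- The fixed points of a set of automorphisms. -/
def fixedOf (T : Set (MulAut G)) : Subgroup G where
  carrier := {g | ∀ t ∈ T, t g = g}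
  one_mem' := fun t _ => map_one t
  mul_mem' := fun {a b} ha hb t ht => by rw [map_mul, ha t ht, hb t ht]
  inv_mem' := fun {a} ha t ht => by rw [map_inv, ha t ht]

theorem card_inv_irr_eq_aux (n : ℕ) : ∀ (G : Type u) [Group G] [Finite G]
    (A : Subgroup (MulAut G)), Nat.card A ≤ n → Group.IsSolvable A →
    (Nat.card G).Coprime (Nat.card A) →
    Nat.card {χ : IrrCharacter G // ∀ a ∈ A, ∀ g, (χ : G → ℂ) (a g) = (χ : G → ℂ) g} =
      Nat.card {K : ConjClasses G //
        ∀ a ∈ A, ∀ g, ConjClasses.mk g = K → ConjClasses.mk (a g) = K} := by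
  induction n using Nat.strong_induction_on with
  | _ n ih =>
  intro G _ _ A hn hsolv hcop
  classical
  letI := Fintype.ofFinite G
  haveI : Finite (MulAut G) := Finite.of_injective (fun e : MulAut G => (e : G → G))
    DFunLike.coe_injective
  rcases subsingleton_or_nontrivial A with hA | hA
  · have h1 : ∀ a ∈ A, a = 1 := fun a ha =>
      congrArg Subtype.val (Subsingleton.elim (⟨a, ha⟩ : A) 1)
    rw [Nat.card_congr (Equiv.subtypeUnivEquiv (α := IrrCharacter G) fun χ a ha g => by
        rw [h1 a ha]; rfl),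
      Nat.card_congr (Equiv.subtypeUnivEquiv (α := ConjClasses G) fun K a ha g hg => by
        rw [h1 a ha]; exact hg)]
    exact Char.card_irr_eq_card_conjClasses
  haveI := hsolv
  obtain ⟨p, T, hp, hTn, hTp, hTne, -⟩ := Coprime.exists_normal_pGroup_of_isSolvable A
  haveI : Fact p.Prime := ⟨hp⟩
  set φ : T →* MulAut G := A.subtype.comp T.subtype with hφ
  set D : Subgroup G := fixedOf (Set.range φ) with hD
  letI := Fintype.ofFinite D
  have hι : IsFixedEmb φ D.subtype := by
    refine ⟨D.subtype_injective, fun g => ?_⟩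
    constructor
    · rintro ⟨c, rfl⟩ t
      exact c.2 _ ⟨t, rfl⟩
    · intro h
      exact ⟨⟨g, by rintro _ ⟨t, rfl⟩; exact h t⟩, rfl⟩
  have hpG : ¬ p ∣ Nat.card G := by
    intro hd
    obtain ⟨k, hk⟩ := hTp.exists_card_eq
    have hk0 : k ≠ 0 := fun h => hTne (T.eq_bot_of_card_eq (by rw [hk, h, pow_zero]))
    have hpA : p ∣ Nat.card A :=
      ((dvd_pow_self p hk0).trans hk.symm.dvd).trans (Subgroup.card_subgroup_dvd_card T)
    exact hp.not_dvd_one (hcop ▸ Nat.dvd_gcd hd hpA)
  have hpres : ∀ (a : A) (g : G), g ∈ D → (a : MulAut G) g ∈ D := by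
    rintro a g hg _ ⟨t, rfl⟩
    have ht : a⁻¹ * (t : A) * a ∈ T := by
      simpa using hTn.conj_mem _ t.2 a⁻¹
    have h := hg _ ⟨⟨_, ht⟩, rfl⟩
    have h2 := congrArg (a : MulAut G) h
    simpa [hφ, MulAut.mul_apply] using h2
  let ρ : A →* MulAut D :=
    { toFun := fun a =>
        { toFun := fun c => ⟨(a : MulAut G) c, hpres a c c.2⟩
          invFun := fun c => ⟨((a⁻¹ : A) : MulAut G) c, hpres a⁻¹ c c.2⟩
          left_inv := fun c => Subtype.ext (by simp)
          right_inv := fun c => Subtype.ext (by simp)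
          map_mul' := fun c c' => Subtype.ext (map_mul (a : MulAut G) (c : G) c') }
      map_one' := by ext c; rfl
      map_mul' := fun a b => by ext c; rfl }
  have hcompat : ∀ (a : A) (c : D), (a : MulAut G) (D.subtype c) = D.subtype (ρ a c) :=
    fun _ _ => rfl
  have hker : (T : Subgroup A) ≤ ρ.ker := by
    intro t ht
    rw [MonoidHom.mem_ker]
    ext c
    exact c.2 _ ⟨⟨t, ht⟩, rfl⟩
  haveI : Finite (MulAut D) := Finite.of_injective (fun e : MulAut D => (e : D → D))
    DFunLike.coe_injective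
  have hcardA : Nat.card ρ.range * Nat.card ρ.ker = Nat.card A := by
    rw [← Nat.card_congr (QuotientGroup.quotientKerEquivRange ρ).toEquiv]
    exact (Subgroup.card_eq_card_quotient_mul_card_subgroup ρ.ker).symm
  have hker2 : 1 < Nat.card ρ.ker :=
    ((Subgroup.one_lt_card_iff_ne_bot T).2 hTne).trans_le (Subgroup.card_le_of_le hker)
  have hlt : Nat.card ρ.range < n := by
    refine lt_of_lt_of_le ?_ hn
    rw [← hcardA]
    exact lt_mul_of_one_lt_right Nat.card_pos hker2
  have hcop' : (Nat.card D).Coprime (Nat.card ρ.range) :=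
    (hcop.coprime_dvd_left (Subgroup.card_subgroup_dvd_card D)).coprime_dvd_right
      (Dvd.intro _ hcardA)
  have key := ih _ hlt D ρ.range le_rfl
    (Group.isSolvable_of_surjective ρ.rangeRestrict_surjective) hcop'
  -- characters
  have hchar : Nat.card {χ : IrrCharacter G //
        ∀ a ∈ A, ∀ g, (χ : G → ℂ) (a g) = (χ : G → ℂ) g} =
      Nat.card {β : IrrCharacter D //
        ∀ b ∈ ρ.range, ∀ c, (β : D → ℂ) (b c) = (β : D → ℂ) c} := by
    have hinvT : ∀ χ : IrrCharacter G, (∀ a ∈ A, ∀ g, (χ : G → ℂ) (a g) = (χ : G → ℂ) g) →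
        IsInv φ (χ : G → ℂ) := fun χ h t g => h _ (t : A).2 g
    choose β hβ1 hβu using fun χ : {χ : IrrCharacter G //
        ∀ a ∈ A, ∀ g, (χ : G → ℂ) (a g) = (χ : G → ℂ) g} =>
      exists_corr hTp hι hpG (hinvT χ.1 χ.2)
    have hne : ∀ χ, (mult D.subtype χ.1 (β χ) : ZMod p) ≠ 0 := fun χ => by
      rcases hβ1 χ with h | h <;> rw [h]
      exacts [one_ne_zero, neg_ne_zero.2 one_ne_zero]
    have hmem : ∀ χ, ∀ b ∈ ρ.range, ∀ c, ((β χ) : D → ℂ) (b c) = ((β χ) : D → ℂ) c := by
      rintro χ _ ⟨a, rfl⟩ c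
      let β' : IrrCharacter D :=
        ⟨_, Char.isIrrCharacter_comp_mulEquiv (β χ).2 (ρ a)⟩
      have h1 : mult D.subtype χ.1 β' = mult D.subtype χ.1 (β χ) :=
        mult_comp (a : MulAut G) (ρ a) (hcompat a) (fun g => (χ.2 _ a.2 g).symm) (fun _ => rfl)
      have h2 : β' = β χ := by
        by_contra hb
        exact hne χ (h1 ▸ hβu χ β' hb)
      exact congrFun (congrArg Subtype.val h2) c
    refine Nat.card_eq_of_bijective (fun χ => ⟨β χ, hmem χ⟩) ⟨?_, ?_⟩
    · intro χ χ' h
      have hb : β χ = β χ' := congrArg Subtype.val h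
      exact Subtype.ext (corr_injective hTp hι hpG (hinvT _ χ.2) (hinvT _ χ'.2) (hne χ)
        (hb ▸ hne χ'))
    · rintro ⟨b, hb⟩
      obtain ⟨χ, hχ, hm⟩ := corr_surjective hTp hι hpG b
      have hfix : ∀ a ∈ A, ∀ g, (χ : G → ℂ) (a g) = (χ : G → ℂ) g := by
        intro a ha g
        let χ' : IrrCharacter G := ⟨_, Char.isIrrCharacter_comp_mulEquiv χ.2 (a : MulAut G)⟩
        have hχ' : IsInv φ (χ' : G → ℂ) := by
          intro t x
          show (χ : G → ℂ) (a (φ t x)) = (χ : G → ℂ) (a x)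
          have ht : (⟨a, ha⟩ : A) * (t : A) * (⟨a, ha⟩ : A)⁻¹ ∈ T := hTn.conj_mem _ t.2 _
          rw [← hχ ⟨_, ht⟩ (a x)]
          congr 1
          simp [hφ, MulAut.mul_apply]
        have h1 : mult D.subtype χ' b = mult D.subtype χ b :=
          mult_comp a (ρ ⟨a, ha⟩) (hcompat ⟨a, ha⟩) (fun _ => rfl)
            (fun c => (hb _ ⟨_, rfl⟩ c).symm)
        have h2 : χ' = χ := corr_injective hTp hι hpG hχ' hχ (h1 ▸ hm) hm
        exact congrFun (congrArg Subtype.val h2) g
      refine ⟨⟨χ, hfix⟩, Subtype.ext ?_⟩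
      by_contra hne'
      exact hm (hβu ⟨χ, hfix⟩ b (Ne.symm hne'))
  -- classes
  have hcls : Nat.card {K : ConjClasses D //
        ∀ b ∈ ρ.range, ∀ c, ConjClasses.mk c = K → ConjClasses.mk (b c) = K} =
      Nat.card {K : ConjClasses G //
        ∀ a ∈ A, ∀ g, ConjClasses.mk g = K → ConjClasses.mk (a g) = K} := by
    have hinj := map_injective hTp hι hpG
    have himg : ∀ L : {K : ConjClasses D //
        ∀ b ∈ ρ.range, ∀ c, ConjClasses.mk c = K → ConjClasses.mk (b c) = K},
        ∀ a ∈ A, ∀ g, ConjClasses.mk g = ConjClasses.map D.subtype L.1 →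
          ConjClasses.mk (a g) = ConjClasses.map D.subtype L.1 := by
      intro L a ha g hg
      obtain ⟨c, hc⟩ := ConjClasses.mk_surjective L.1
      have h1 := L.2 _ ⟨⟨a, ha⟩, rfl⟩ c hc
      rw [← hc] at hg
      change ConjClasses.mk g = ConjClasses.mk (D.subtype c) at hg
      rw [← h1]
      show ConjClasses.mk (a g) = ConjClasses.mk (D.subtype (ρ ⟨a, ha⟩ c))
      rw [← hcompat, ConjClasses.mk_eq_mk_iff_isConj]
      exact MonoidHom.map_isConj (a : MulAut G).toMonoidHom
        (ConjClasses.mk_eq_mk_iff_isConj.1 hg)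
    refine Nat.card_eq_of_bijective
      (fun L => ⟨ConjClasses.map D.subtype L.1, himg L⟩) ⟨?_, ?_⟩
    · exact fun L L' h => Subtype.ext (hinj (congrArg Subtype.val h))
    · rintro ⟨K, hK⟩
      obtain ⟨L, rfl⟩ := exists_map_eq hTp hι hpG
        (fun t g hg => hK _ (t : A).2 g hg)
      refine ⟨⟨L, ?_⟩, rfl⟩
      rintro _ ⟨a, rfl⟩ c hc
      apply hinj
      subst hc
      show ConjClasses.mk (D.subtype (ρ a c)) = _
      rw [← hcompat]
      exact hK _ a.2 _ rfl
  rw [hchar, key, hcls]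

/-- A solvable group of automorphisms of coprime order fixes as many irreducible characters as
conjugacy classes. -/
theorem card_inv_irr_eq (A : Subgroup (MulAut G)) (hs : Group.IsSolvable A)
    (hcop : (Nat.card G).Coprime (Nat.card A)) :
    Nat.card {χ : IrrCharacter G // ∀ a ∈ A, ∀ g, (χ : G → ℂ) (a g) = (χ : G → ℂ) g} =
      Nat.card {K : ConjClasses G //
        ∀ a ∈ A, ∀ g, ConjClasses.mk g = K → ConjClasses.mk (a g) = K} :=
  card_inv_irr_eq_aux _ G A le_rfl hs hcop

/-- Conjugation action of a normalising subgroup. -/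
def conjHom {Γ : Type*} [Group Γ] (H S : Subgroup Γ)
    (hnorm : ∀ s ∈ S, ∀ g ∈ H, s * g * s⁻¹ ∈ H) : S →* MulAut H where
  toFun s :=
    { toFun := fun g => ⟨(s : Γ) * g * (s : Γ)⁻¹, hnorm s s.2 g g.2⟩
      invFun := fun g => ⟨(s : Γ)⁻¹ * g * s, by
        simpa using hnorm (s : Γ)⁻¹ (S.inv_mem s.2) g g.2⟩
      left_inv := fun g => Subtype.ext (by simp [mul_assoc])
      right_inv := fun g => Subtype.ext (by simp [mul_assoc])
      map_mul' := fun g g' => Subtype.ext (by simp [mul_assoc]) }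
  map_one' := by ext g; simp
  map_mul' := fun s t => by ext g; simp [mul_assoc]

@[simp] theorem conjHom_apply {Γ : Type*} [Group Γ] (H S : Subgroup Γ)
    (hnorm : ∀ s ∈ S, ∀ g ∈ H, s * g * s⁻¹ ∈ H) (s : S) (g : H) :
    ((conjHom H S hnorm s g : H) : Γ) = s * g * (s : Γ)⁻¹ := rfl

end Cfsg.Agent.Glauberman
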