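import Cfsg.Agent.CharExt.Extension
import Cfsg.Agent.Transfer.Residual
import Cfsg.Agent.BrauerPairs.BrauerMap
import Cfsg.Agent.Char.InvolutionCount
import Cfsg.Agent.Char.Linear

/-!
# Invariant characters of `O^p(G)`; Thompson's theorem on degrees
-/

set_option autoImplicit false
set_option linter.style.haveILetI false
set_option linter.unusedSectionVars false

open scoped ComplexConjugate
open Module

namespace Cfsg.Agent.Char

universe u

variable {G : Type u} [Group G] [Finite G] {p : ℕ} [Fact p.Prime]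

/-- An invariant linear character of `O^p(G)` has order prime to `p`. -/
theorem coprime_orderOf_invariant (lam : Cfsg.pResidual p G →* ℂˣ)
    (hinv : ∀ (g : G) (n : Cfsg.pResidual p G), lam (MulAut.conjNormal g n) = lam n) :
    Nat.Coprime (orderOf lam) p := by
  have hp : p.Prime := Fact.out
  rw [Nat.coprime_comm, hp.coprime_iff_not_dvd]
  intro hdvd
  haveI := monoidHom_complex_finite (G := ↥(Cfsg.pResidual p G))
  set μ := lam ^ (orderOf lam / p) with hμ
  have hμord : orderOf μ = p := orderOf_pow_orderOf_div (orderOf_pos lam).ne' hdvd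
  have hμp : ∀ x, μ x ^ p = 1 := fun x => by
    have h := pow_orderOf_eq_one μ
    rw [hμord] at h
    rw [← MonoidHom.pow_apply, h, MonoidHom.one_apply]
  have hμinv : ∀ (g : G) (n : Cfsg.pResidual p G), μ (MulAut.conjNormal g n) = μ n := fun g n => by
    rw [hμ, MonoidHom.pow_apply, MonoidHom.pow_apply, hinv]
  let N : Subgroup G := μ.ker.map (Cfsg.pResidual p G).subtype
  haveI hN : N.Normal := ⟨fun n hn g => by
    obtain ⟨k, hk, rfl⟩ := hn
    refine ⟨MulAut.conjNormal g k, ?_, by simp⟩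
    rw [SetLike.mem_coe, MonoidHom.mem_ker, hμinv]
    exact hk⟩
  have hQ : IsPGroup p (G ⧸ N) := fun q => by
    obtain ⟨g, rfl⟩ := QuotientGroup.mk_surjective q
    obtain ⟨k, hk⟩ := Transfer.exists_pow_mem_pResidual (p := p) g
    refine ⟨k + 1, ?_⟩
    rw [← QuotientGroup.mk_pow, QuotientGroup.eq_one_iff, pow_succ, pow_mul]
    exact ⟨(⟨_, hk⟩ : Cfsg.pResidual p G) ^ p, by
      rw [SetLike.mem_coe, MonoidHom.mem_ker, map_pow, hμp], by simp⟩
  have hle := Transfer.pResidual_le_of_isPGroup_quotient N hQ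
  have hμ1 : μ = 1 := MonoidHom.ext fun x => by
    obtain ⟨y, hy, hyx⟩ := hle x.2
    rw [show x = y from Subtype.ext hyx.symm]
    exact hy
  rw [hμ1, orderOf_one] at hμord
  exact hp.one_lt.ne hμord

/-- An invariant character of `O^p(G)` of degree prime to `p` extends. -/
theorem exists_extension_pResidual (θ : IrrCharacter (Cfsg.pResidual p G))
    (hinv : ∀ (g : G) (n : Cfsg.pResidual p G),
      (θ : _ → ℂ) (MulAut.conjNormal g n) = (θ : _ → ℂ) n)
    (hdeg : ¬ p ∣ Cfsg.charDegree (θ : Cfsg.pResidual p G → ℂ)) :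
    ∃ χ : IrrCharacter G, (∀ n : Cfsg.pResidual p G, (χ : G → ℂ) n = (θ : _ → ℂ) n) ∧
      ¬ p ∣ orderOf (Cfsg.detChar (χ : G → ℂ)) := by
  have hp : p.Prime := Fact.out
  obtain ⟨k, hk⟩ := Transfer.exists_index_pResidual_eq_pow (p := p) (G := G)
  have hinv' : ∀ (g : G) (n : (Cfsg.pResidual p G)), (θ : (Cfsg.pResidual p G) → ℂ) (CharExt.cj (Cfsg.pResidual p G) g n) = (θ : (Cfsg.pResidual p G) → ℂ) n := fun g n => by
    rw [← hinv g n]; rfl
  have hlin := CharExt.detChar_isLin (θ : (Cfsg.pResidual p G) → ℂ)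
  have hdetinv : ∀ (g : G) (n : (Cfsg.pResidual p G)), hlin.toHom (CharExt.cj (Cfsg.pResidual p G) g n) = hlin.toHom n := fun g n =>
    Units.ext (CharExt.detChar_inv (Cfsg.pResidual p G) (isCharacter_of_irr θ.2) hinv' g n)
  have hord : Nat.Coprime (orderOf hlin.toHom) p :=
    coprime_orderOf_invariant hlin.toHom fun g n => hdetinv g n
  obtain ⟨μ, ⟨hμ, hμord⟩, -⟩ := CharExt.exists_unique_coprime_extension (Cfsg.pResidual p G) hlin.toHom hdetinv
    (hk ▸ Nat.Coprime.pow_left k hord.symm)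
  obtain ⟨χ, hχ, hres, hdet⟩ := CharExt.exists_char_extension (Cfsg.pResidual p G) (θ : (Cfsg.pResidual p G) → ℂ) θ.2 hinv'
    (Cfsg.charDegree (θ : (Cfsg.pResidual p G) → ℂ)) (irr_charDegree_spec θ.2).2
    (hk ▸ Nat.Coprime.pow_left k (hp.coprime_iff_not_dvd.mpr hdeg))
    (CharExt.homVal μ) (CharExt.homVal_isLin μ) (fun n => by
      show (μ n : ℂ) = _
      rw [hμ]; rfl)
  refine ⟨⟨χ, hχ⟩, hres, ?_⟩
  rw [show Cfsg.detChar χ = CharExt.homVal μ from hdet,
    orderOf_injective CharExt.homVal CharExt.homVal_injective, hμord]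
  exact fun h => hp.coprime_iff_not_dvd.mp hord.symm h

open scoped Classical in
/-- `|O^p(G)|` modulo `p` as a sum over invariant characters of degree prime to `p`. -/
theorem card_pResidual_eq_sum :
    (Nat.card (Cfsg.pResidual p G) : ZMod p) = ∑ θ ∈ Finset.univ.filter
      (fun θ : IrrCharacter (Cfsg.pResidual p G) => (∀ (g : G) (n : Cfsg.pResidual p G),
          (θ : _ → ℂ) (MulAut.conjNormal g n) = (θ : _ → ℂ) n) ∧
        ¬ p ∣ Cfsg.charDegree (θ : Cfsg.pResidual p G → ℂ)),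
      ((Cfsg.charDegree (θ : Cfsg.pResidual p G → ℂ) : ℕ) : ZMod p) ^ 2 := by
  have hp : p.Prime := Fact.out
  letI := Fintype.ofFinite (Cfsg.pResidual p G)
  obtain ⟨P⟩ : Nonempty (Sylow p G) := inferInstance
  letI act : MulAction (P : Subgroup G) (IrrCharacter (Cfsg.pResidual p G)) :=
    { smul := fun x θ => ⟨(θ : (Cfsg.pResidual p G) → ℂ) ∘ (MulAut.conjNormal (x : G)⁻¹ : MulAut (Cfsg.pResidual p G)),
        isIrrCharacter_comp_mulEquiv θ.2 (MulAut.conjNormal (x : G)⁻¹ : MulAut (Cfsg.pResidual p G))⟩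
      one_smul := fun θ => Subtype.ext (funext fun n => by
        show (θ : (Cfsg.pResidual p G) → ℂ) (MulAut.conjNormal ((1 : (P : Subgroup G)) : G)⁻¹ n) = _
        simp)
      mul_smul := fun x y θ => Subtype.ext (funext fun n => by
        show (θ : (Cfsg.pResidual p G) → ℂ) (MulAut.conjNormal ((x * y : (P : Subgroup G)) : G)⁻¹ n)
          = (θ : (Cfsg.pResidual p G) → ℂ) (MulAut.conjNormal (y : G)⁻¹ (MulAut.conjNormal (x : G)⁻¹ n))
        simp) }
  set f : IrrCharacter (Cfsg.pResidual p G) → ZMod p := fun θ => ((Cfsg.charDegree (θ : (Cfsg.pResidual p G) → ℂ) : ℕ) : ZMod p) ^ 2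
    with hf
  have hfinv : ∀ (x : (P : Subgroup G)) (θ : IrrCharacter (Cfsg.pResidual p G)), f (x • θ) = f θ := fun x θ => by
    have : Cfsg.charDegree ((x • θ : IrrCharacter (Cfsg.pResidual p G)) : (Cfsg.pResidual p G) → ℂ) = Cfsg.charDegree (θ : (Cfsg.pResidual p G) → ℂ) := by
      refine charDegree_of_eq ?_
      show (θ : (Cfsg.pResidual p G) → ℂ) (MulAut.conjNormal (x : G)⁻¹ 1) = _
      rw [map_one]; exact (irr_charDegree_spec θ.2).2
    simp only [hf, this]
  have h := BrauerPairs.sum_eq_sum_fixedPoints (P := (P : Subgroup G)) (α := IrrCharacter (Cfsg.pResidual p G))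
    (fun a : ZMod p => by rw [nsmul_eq_mul, ZMod.natCast_self, zero_mul]) P.isPGroup' f hfinv
  have hsum : ∑ θ, f θ = (Nat.card (Cfsg.pResidual p G) : ZMod p) := by
    have h1 := sum_irr_degree_sq (G := (Cfsg.pResidual p G))
    simp only [fun θ : IrrCharacter (Cfsg.pResidual p G) => (irr_charDegree_spec θ.2).2] at h1
    have h2 : ∑ θ : IrrCharacter (Cfsg.pResidual p G), Cfsg.charDegree (θ : (Cfsg.pResidual p G) → ℂ) ^ 2 = Nat.card (Cfsg.pResidual p G) := by
      exact_mod_cast h1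
    simp only [hf]
    exact_mod_cast congrArg (Nat.cast (R := ZMod p)) h2
  rw [← hsum, h]
  have hfix : ∀ θ : IrrCharacter (Cfsg.pResidual p G), θ ∈ MulAction.fixedPoints (P : Subgroup G) (IrrCharacter (Cfsg.pResidual p G)) ↔
      ∀ (g : G) (n : (Cfsg.pResidual p G)), (θ : (Cfsg.pResidual p G) → ℂ) (MulAut.conjNormal g n) = (θ : (Cfsg.pResidual p G) → ℂ) n := by
    intro θ
    constructor
    · intro hθ g n
      obtain ⟨k, hk, x, hx, rfl⟩ : ∃ k ∈ (Cfsg.pResidual p G), ∃ x ∈ (P : Subgroup G), k * x = g := by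
        have hg : g ∈ (Cfsg.pResidual p G) ⊔ (P : Subgroup G) := by
          rw [Transfer.pResidual_sup_sylow P]; trivial
        exact Subgroup.mem_sup_of_normal_left.mp hg
      have h1 : (θ : (Cfsg.pResidual p G) → ℂ) (MulAut.conjNormal x n) = (θ : (Cfsg.pResidual p G) → ℂ) n := by
        have h2 := congrFun (congrArg Subtype.val (hθ (⟨x, hx⟩⁻¹ : (P : Subgroup G)))) n
        change (θ : (Cfsg.pResidual p G) → ℂ) (MulAut.conjNormal (((⟨x, hx⟩⁻¹ : (P : Subgroup G)) : G))⁻¹ n) = _ at h2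
        simpa using h2
      rw [← h1, ← irr_isClassFunction θ.2 (MulAut.conjNormal x n) ⟨k, hk⟩]
      refine congrArg (θ : (Cfsg.pResidual p G) → ℂ) (Subtype.ext ?_)
      show k * x * (n : G) * (k * x)⁻¹ = k * (x * (n : G) * x⁻¹) * k⁻¹
      group
    · exact fun hθ x => Subtype.ext (funext fun n => hθ _ n)
  refine (Finset.sum_subset (fun θ hθ => ?_) (fun θ hθ hθ' => ?_)).symm
  · simp only [Finset.mem_filter, Finset.mem_univ, true_and] at hθ ⊢
    exact (hfix θ).mpr hθ.1
  · simp only [Finset.mem_filter, Finset.mem_univ, true_and, not_and, not_not] at hθ hθ'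
    simp only [hf, (ZMod.natCast_eq_zero_iff _ p).mpr (hθ' ((hfix θ).mp hθ))]
    simp

/-- Thompson: if `p` divides every nonlinear degree then `p` does not divide `|O^p(G)|`. -/
theorem not_dvd_card_pResidual_of_degrees
    (hdeg : ∀ χ : IrrCharacter G, Cfsg.charDegree (χ : G → ℂ) ≠ 1 →
      p ∣ Cfsg.charDegree (χ : G → ℂ)) :
    ¬ p ∣ Nat.card (Cfsg.pResidual p G) := by
  classical
  have hp : p.Prime := Fact.out
  letI := Fintype.ofFinite (Cfsg.pResidual p G)
  haveI := monoidHom_complex_finite (G := ↥(Cfsg.pResidual p G))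
  have hone : ∀ θ : IrrCharacter (Cfsg.pResidual p G), (∀ (g : G) (n : (Cfsg.pResidual p G)),
      (θ : (Cfsg.pResidual p G) → ℂ) (MulAut.conjNormal g n) = (θ : (Cfsg.pResidual p G) → ℂ) n) →
      ¬ p ∣ Cfsg.charDegree (θ : (Cfsg.pResidual p G) → ℂ) → (θ : (Cfsg.pResidual p G) → ℂ) 1 = 1 := by
    intro θ hinv hd
    obtain ⟨χ, hres, -⟩ := exists_extension_pResidual θ hinv hd
    have h1 : Cfsg.charDegree (χ : G → ℂ) = Cfsg.charDegree (θ : (Cfsg.pResidual p G) → ℂ) := charDegree_of_eq (by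
      have := hres 1
      rw [OneMemClass.coe_one] at this
      rw [this]; exact (irr_charDegree_spec θ.2).2)
    have h2 : Cfsg.charDegree (θ : (Cfsg.pResidual p G) → ℂ) = 1 := by
      by_contra hne
      exact hd (h1 ▸ hdeg χ (h1 ▸ hne))
    rw [(irr_charDegree_spec θ.2).2, h2, Nat.cast_one]
  let L : Subgroup ((Cfsg.pResidual p G) →* ℂˣ) :=
    { carrier := {lam | ∀ (g : G) (n : (Cfsg.pResidual p G)), lam (MulAut.conjNormal g n) = lam n}
      one_mem' := fun g n => rfl
      mul_mem' := fun {a b} ha hb g n => by simp [ha g n, hb g n]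
      inv_mem' := fun {a} ha g n => by simp [ha g n] }
  intro hdvd
  have hkey : (Nat.card L : ZMod p) = (Nat.card (Cfsg.pResidual p G) : ZMod p) := by
    rw [card_pResidual_eq_sum]
    letI : Fintype L := Fintype.ofFinite _
    rw [Nat.card_eq_fintype_card, ← Finset.card_univ, Finset.cast_card]
    refine Finset.sum_bij (fun lam _ => (monoidHomEquivLinear lam.1).1) (fun lam _ => ?_)
      (fun a _ b _ h => Subtype.ext (monoidHomEquivLinear.injective (Subtype.ext h))) (fun θ hθ => ?_)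
      (fun lam _ => ?_)
    · simp only [Finset.mem_filter, Finset.mem_univ, true_and]
      refine ⟨fun g n => congrArg Units.val (lam.2 g n), ?_⟩
      rw [charDegree_of_eq (d := 1) (by rw [(monoidHomEquivLinear lam.1).2, Nat.cast_one])]
      exact hp.not_dvd_one
    · simp only [Finset.mem_filter, Finset.mem_univ, true_and] at hθ
      refine ⟨⟨monoidHomEquivLinear.symm ⟨θ, hone θ hθ.1 hθ.2⟩, fun g n => Units.ext ?_⟩,
        Finset.mem_univ _, by simp⟩
      have h3 := congrArg (fun t => ((t.1 : IrrCharacter (Cfsg.pResidual p G)) : (Cfsg.pResidual p G) → ℂ))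
        (monoidHomEquivLinear.apply_symm_apply
          (⟨θ, hone θ hθ.1 hθ.2⟩ : {χ : IrrCharacter (Cfsg.pResidual p G) // (χ : (Cfsg.pResidual p G) → ℂ) 1 = 1}))
      exact (congrFun h3 _).trans ((hθ.1 g n).trans (congrFun h3 n).symm)
    · rw [charDegree_of_eq (d := 1) (by rw [(monoidHomEquivLinear lam.1).2, Nat.cast_one])]
      simp
  rw [(ZMod.natCast_eq_zero_iff (Nat.card (Cfsg.pResidual p G)) p).mpr hdvd, ZMod.natCast_eq_zero_iff] at hkey
  obtain ⟨x, hx⟩ := exists_prime_orderOf_dvd_card' p hkey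
  have := coprime_orderOf_invariant x.1 x.2
  rw [Subgroup.orderOf_coe, hx] at this
  exact hp.coprime_iff_not_dvd.mp this dvd_rfl

end Cfsg.Agent.Char
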