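import Cfsg.Agent.Char.InvolutionCount
import Cfsg.Agent.Char.Linear
import Mathlib.GroupTheory.PGroup
import Mathlib.GroupTheory.Nilpotent
import Mathlib.GroupTheory.SpecificGroups.Cyclic

/-!
# Involutions of 2-groups: the Alperin-Feit-Thompson congruence
-/

set_option autoImplicit false
set_option linter.style.haveILetI false
set_option linter.unusedSectionVars false

open scoped ComplexConjugate
open Module

namespace Cfsg.Agent.Char

universe u

variable {G : Type u} [Group G]

open scoped Classical in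
/-- The sign homomorphism of a subgroup of index two. -/
noncomputable def signHom {M : Subgroup G} (hM : M.index = 2) : G →* ℂˣ :=
  { toFun := fun g => if g ∈ M then 1 else -1
    map_one' := if_pos M.one_mem
    map_mul' := fun a b => by
      by_cases ha : a ∈ M <;> by_cases hb : b ∈ M <;>
        simp [Subgroup.mul_mem_iff_of_index_two hM, ha, hb] }

theorem signHom_eq_one_iff {M : Subgroup G} (hM : M.index = 2) (g : G) :
    signHom hM g = 1 ↔ g ∈ M := by
  classical
  show (if g ∈ M then (1 : ℂˣ) else -1) = 1 ↔ g ∈ M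
  split_ifs with h
  · simp [h]
  · simp only [h, iff_false]
    intro he
    have := congrArg Units.val he
    norm_num at this

theorem index_eq_two_of_isCoatom [Finite G] (hG : IsPGroup 2 G) {M : Subgroup G} (hM : IsCoatom M) :
    M.index = 2 := by
  haveI := hG.isNilpotent
  haveI : M.Normal := Subgroup.NormalizerCondition.normal_of_coatom M Group.normalizerCondition_of_isNilpotent hM
  haveI : Nontrivial (G ⧸ M) := by
    obtain ⟨g, hg⟩ : ∃ g, g ∉ M := by
      by_contra hc
      push Not at hc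
      exact hM.1 ((Subgroup.eq_top_iff' M).mpr hc)
    exact ⟨(g : G ⧸ M), 1, mt (QuotientGroup.eq_one_iff g).mp hg⟩
  obtain ⟨k, hk⟩ := IsPGroup.iff_card.mp (hG.to_quotient M)
  have hk0 : k ≠ 0 := fun h => by
    rw [h, pow_zero] at hk
    exact (Finite.one_lt_card (α := G ⧸ M)).ne' hk
  obtain ⟨q, hq⟩ := exists_prime_orderOf_dvd_card' (G := G ⧸ M) 2 (hk ▸ dvd_pow_self 2 hk0)
  have hlt : M < (Subgroup.zpowers q).comap (QuotientGroup.mk' M) := by
    refine lt_of_le_of_ne (fun x hx => ?_) fun h => ?_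
    · rw [Subgroup.mem_comap, QuotientGroup.mk'_apply, (QuotientGroup.eq_one_iff x).mpr hx]
      exact one_mem _
    · obtain ⟨g, rfl⟩ := QuotientGroup.mk_surjective q
      have hg : g ∈ M := by rw [h]; exact Subgroup.mem_zpowers _
      rw [(QuotientGroup.eq_one_iff g).mpr hg, orderOf_one] at hq
      exact absurd hq (by norm_num)
  have htop := hM.2 _ hlt
  have hz : Subgroup.zpowers q = ⊤ := by
    rw [← Subgroup.map_comap_eq_self_of_surjective (QuotientGroup.mk'_surjective M)
      (Subgroup.zpowers q), htop, Subgroup.map_top_of_surjective _ (QuotientGroup.mk'_surjective M)]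
  rw [Subgroup.index_eq_card, ← Subgroup.card_top (G := G ⧸ M), ← hz, Nat.card_zpowers, hq]

/-- A 2-group with at most one nontrivial sign character is cyclic. -/
theorem isCyclic_of_card_sign_le [Finite G] (hG : IsPGroup 2 G)
    (h : Nat.card {f : G →* ℂˣ // f * f = 1} ≤ 2) : IsCyclic G := by
  haveI := monoidHom_complex_finite (G := G)
  by_contra hcyc
  have hco : ∀ g : G, ∃ M : Subgroup G, IsCoatom M ∧ g ∈ M := fun g => by
    rcases eq_top_or_exists_le_coatom (Subgroup.zpowers g) with h1 | ⟨M, hM, hle⟩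
    · exact absurd ⟨⟨g, (Subgroup.eq_top_iff' _).mp h1⟩⟩ hcyc
    · exact ⟨M, hM, hle (Subgroup.mem_zpowers g)⟩
  obtain ⟨M, hM, -⟩ := hco 1
  obtain ⟨g, hg⟩ : ∃ g, g ∉ M := by
    by_contra hc
    push Not at hc
    exact hM.1 ((Subgroup.eq_top_iff' M).mpr hc)
  obtain ⟨M', hM', hg'⟩ := hco g
  have h1 := index_eq_two_of_isCoatom hG hM
  have h2 := index_eq_two_of_isCoatom hG hM'
  have hsq : ∀ {N : Subgroup G} (hN : N.index = 2), signHom hN * signHom hN = 1 := fun {N} hN => by
    classical
    refine MonoidHom.ext fun x => ?_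
    show (if x ∈ N then (1 : ℂˣ) else -1) * (if x ∈ N then (1 : ℂˣ) else -1) = 1
    split_ifs <;> simp
  let s : Fin 3 → {f : G →* ℂˣ // f * f = 1} :=
    ![⟨1, MonoidHom.ext fun _ => one_mul _⟩, ⟨signHom h1, hsq h1⟩, ⟨signHom h2, hsq h2⟩]
  have hinj : Function.Injective s := by
    have e1 : signHom h1 ≠ 1 := fun e =>
      hg ((signHom_eq_one_iff h1 g).mp (by rw [e]; rfl))
    obtain ⟨g2, hg2⟩ : ∃ g2, g2 ∉ M' := by
      by_contra hc
      push Not at hc
      exact hM'.1 ((Subgroup.eq_top_iff' M').mpr hc)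
    have e2 : signHom h2 ≠ 1 := fun e =>
      hg2 ((signHom_eq_one_iff h2 g2).mp (by rw [e]; rfl))
    have e3 : signHom h1 ≠ signHom h2 := fun e =>
      hg ((signHom_eq_one_iff h1 g).mp (by rw [e]; exact (signHom_eq_one_iff h2 g).mpr hg'))
    intro i j hij
    have hij' := congrArg Subtype.val hij
    fin_cases i <;> fin_cases j <;>
      simp [s, e1, e2, e3, Ne.symm e1, Ne.symm e2, Ne.symm e3] at hij' ⊢
  have := Nat.card_le_card_of_injective s hinj
  simp at this
  omega

/-- Alperin, Feit and Thompson: a 2-group with `t ≡ 1 (mod 4)` involutions is cyclic or has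
commutator quotient of order four. -/
theorem cyclic_or_index_commutator_four [Finite G] (hG : IsPGroup 2 G)
    (ht : Nat.card {x : G // orderOf x = 2} % 4 = 1) : IsCyclic G ∨ (commutator G).index = 4 := by
  classical
  letI := Fintype.ofFinite G
  haveI := monoidHom_complex_finite (G := G)
  obtain ⟨n, hn⟩ := IsPGroup.iff_card.mp hG
  choose d hd hd1 hdvd using fun χ : IrrCharacter G => irr_degree_dvd_card χ.2
  have hdeg : ∀ χ, d (conjIrr χ) = d χ := fun χ => by
    have h := hd1 (conjIrr χ)
    rw [conjIrr_apply, hd1 χ, map_natCast] at h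
    exact_mod_cast h.symm
  set ν : IrrCharacter G → ℂ := fun χ => (Nat.card G : ℂ)⁻¹ * ∑ s : G, (χ : G → ℂ) (s * s) with hν
  have hνint : ∀ χ : IrrCharacter G, ∃ e : ℤ, ν χ = e ∧ (conjIrr χ ≠ χ → e = 0) ∧
      (conjIrr χ = χ → e = 1 ∨ e = -1) ∧ (conjIrr χ = χ → d χ = 1 → e = 1) := by
    intro χ
    obtain ⟨hcase, hzero⟩ := frobeniusSchur_trichotomy χ.2
    have hnz : conjIrr χ = χ → ν χ ≠ 0 := fun hc h0 => by
      obtain ⟨s, hs⟩ := hzero.mp h0
      exact hs ((conjIrr_eq_self_iff χ).mp hc s)
    have hz : conjIrr χ ≠ χ → ν χ = 0 := fun hc => hzero.mpr (by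
      by_contra h
      push Not at h
      exact hc ((conjIrr_eq_self_iff χ).mpr h))
    have hlin : conjIrr χ = χ → d χ = 1 → ν χ = 1 := by
      intro hc hd'
      obtain ⟨f, hf⟩ := exists_monoidHom_of_degree_one (isCharacter_of_irr χ.2)
        (by rw [hd1 χ, hd', Nat.cast_one])
      have h2 : ∀ s : G, (χ : G → ℂ) (s * s) = (χ : G → ℂ) s * conj ((χ : G → ℂ) s) := fun s => by
        rw [Complex.conj_eq_iff_im.mpr ((conjIrr_eq_self_iff χ).mp hc s), hf, hf, map_mul,
          Units.val_mul]
      simp only [hν, h2]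
      exact classInner_irr_self χ.2
    rcases hcase with h | h | h
    · exact ⟨0, by rw [Int.cast_zero]; exact h, fun _ => rfl, fun hc => absurd h (hnz hc),
        fun hc => absurd h (hnz hc)⟩
    · refine ⟨1, by rw [Int.cast_one]; exact h, fun hc => ?_, fun _ => Or.inl rfl, fun _ _ => rfl⟩
      have := hz hc
      rw [show ν χ = 1 from h] at this
      exact absurd this one_ne_zero
    · refine ⟨-1, by rw [Int.cast_neg, Int.cast_one]; exact h, fun hc => ?_, fun _ => Or.inr rfl, fun hc hd' => ?_⟩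
      · have := hz hc
        rw [show ν χ = -1 from h] at this
        norm_num at this
      · have := hlin hc hd'
        rw [show ν χ = -1 from h] at this
        norm_num at this
  choose e he he0 he1 he2 using hνint
  have hcount : Nat.card {s : G // s * s = 1} = Nat.card {x : G // orderOf x = 2} + 1 := by
    rw [Nat.card_eq_fintype_card, Nat.card_eq_fintype_card, Fintype.card_subtype,
      Fintype.card_subtype, ← Finset.card_insert_of_notMem (a := (1 : G)) (by simp)]
    congr 1
    ext x
    simp only [Finset.mem_filter, Finset.mem_univ, true_and, Finset.mem_insert]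
    constructor
    · intro h
      by_cases h1 : x = 1
      · exact Or.inl h1
      · exact Or.inr (orderOf_eq_prime (by rw [sq]; exact h) h1)
    · rintro (rfl | h)
      · exact one_mul 1
      · rw [← sq, ← h, pow_orderOf_eq_one]
  have hsum : ((Nat.card {x : G // orderOf x = 2} + 1 : ℕ) : ℤ) = ∑ χ, e χ * (d χ : ℤ) := by
    have h := card_sq_eq_one (G := G)
    rw [hcount] at h
    simp only [fun χ : IrrCharacter G => (show (Nat.card G : ℂ)⁻¹ * ∑ s : G, (χ : G → ℂ) (s * s)
      = (e χ : ℂ) from he χ), hd1] at h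
    exact_mod_cast h
  set Sig := Finset.univ.filter fun χ : IrrCharacter G => conjIrr χ = χ ∧ d χ = 1 with hSig
  set R2 := Finset.univ.filter fun χ : IrrCharacter G => conjIrr χ = χ ∧ d χ = 2 with hR2
  have hterm : ∀ χ, ((e χ * (d χ : ℤ) : ℤ) : ZMod 4)
      = (if conjIrr χ = χ ∧ d χ = 1 then 1 else 0) + (if conjIrr χ = χ ∧ d χ = 2 then 2 else 0) := by
    intro χ
    by_cases hc : conjIrr χ = χ
    swap
    · simp [he0 χ hc, hc]
    obtain ⟨i, -, hi⟩ := (Nat.dvd_prime_pow Nat.prime_two).mp (hn ▸ hdvd χ)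
    match i, hi with
    | 0, hi => rw [he2 χ hc (by simpa using hi)]; simp [hc, hi]
    | 1, hi =>
      rcases he1 χ hc with h | h <;> rw [h] <;> simp [hc, hi]
      rfl
    | i + 2, hi =>
      have h4 : ((d χ : ℤ) : ZMod 4) = 0 := by
        rw [hi, Int.cast_natCast, ZMod.natCast_eq_zero_iff, pow_add]
        exact dvd_mul_left 4 _
      have h1 : d χ ≠ 1 ∧ d χ ≠ 2 := by
        have : 4 ≤ d χ := by
          rw [hi, pow_add]; exact Nat.le_mul_of_pos_left 4 (pow_pos Nat.two_pos i)
        omega
      rw [Int.cast_mul, h4, mul_zero]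
      simp [h1.1, h1.2]
  have hmod : (Sig.card + 2 * R2.card) % 4 = 2 := by
    have h := congrArg (fun z : ℤ => (z : ZMod 4)) hsum
    simp only [Int.cast_sum, hterm, Int.cast_natCast, Finset.sum_add_distrib, ← Finset.sum_filter,
      Finset.sum_const, nsmul_eq_mul, mul_one, ← hSig, ← hR2] at h
    have h2 : ((Sig.card + 2 * R2.card : ℕ) : ZMod 4) = ((Nat.card {x : G // orderOf x = 2} + 1 : ℕ) : ZMod 4) := by
      rw [h]; push_cast; ring
    rw [ZMod.natCast_eq_natCast_iff'] at h2
    omega
  have hSigCard : Sig.card = Nat.card {f : G →* ℂˣ // f * f = 1} := by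
    rw [hSig, ← Fintype.card_subtype, ← Nat.card_eq_fintype_card]
    refine (Nat.card_congr ?_).symm
    refine ((monoidHomEquivLinear (G := G)).subtypeEquiv
      (q := fun χ => conjIrr χ.1 = χ.1) fun f => ?_).trans
      ((Equiv.subtypeSubtypeEquivSubtypeInter (fun χ : IrrCharacter G => (χ : G → ℂ) 1 = 1)
        (fun χ => conjIrr χ = χ)).trans (Equiv.subtypeEquivRight fun χ => ?_))
    · constructor
      · intro hf
        refine (conjIrr_eq_self_iff _).mpr fun g => ?_
        show ((f g : ℂ)).im = 0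
        rcases mul_self_eq_one_iff.mp (show (f g : ℂ) * (f g : ℂ) = 1 by
          rw [← Units.val_mul, ← MonoidHom.mul_apply, hf]; rfl) with h | h <;> simp [h]
      · intro hf
        refine MonoidHom.ext fun g => Units.ext ?_
        have h0 : ((f g : ℂ)).im = 0 := (conjIrr_eq_self_iff _).mp hf g
        have h1 : ‖(f g : ℂ)‖ = 1 := Complex.norm_eq_one_of_pow_eq_one (n := orderOf g)
          (by rw [← Units.val_pow_eq_pow_val, ← map_pow, pow_orderOf_eq_one, map_one, Units.val_one])
          (orderOf_pos g).ne'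
        have h2 : (f g : ℂ) * conj (f g : ℂ) = 1 := by rw [Complex.mul_conj', h1]; simp
        rw [Complex.conj_eq_iff_im.mpr h0] at h2
        simpa using h2
    · rw [hd1]
      constructor
      · rintro ⟨h1, h2⟩; exact ⟨h2, by exact_mod_cast h1⟩
      · rintro ⟨h1, h2⟩; exact ⟨by rw [h2, Nat.cast_one], h1⟩
  by_cases hle : Sig.card ≤ 2
  · exact Or.inl (isCyclic_of_card_sign_le hG (hSigCard ▸ hle))
  right
  have hpow : ∀ m : ℕ, (∃ i, m = 2 ^ i) → 2 < m → 4 ∣ m := by
    rintro m ⟨i, rfl⟩ hm
    match i, hm with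
    | 0, hm => simp at hm
    | 1, hm => simp at hm
    | i + 2, _ => exact ⟨2 ^ i, by rw [pow_add]; ring⟩
  have ha : Nat.card (G →* ℂˣ) = (commutator G).index := card_monoidHom_complex
  obtain ⟨k, -, hk⟩ := (Nat.dvd_prime_pow Nat.prime_two).mp
    (hn ▸ (commutator G).index_dvd_card)
  have hHom : IsPGroup 2 (G →* ℂˣ) := IsPGroup.of_card (ha.trans hk)
  let T : Subgroup (G →* ℂˣ) := (powMonoidHom 2 : (G →* ℂˣ) →* (G →* ℂˣ)).ker
  have hT : Nat.card {f : G →* ℂˣ // f * f = 1} = Nat.card T :=
    Nat.card_congr (Equiv.subtypeEquivRight fun f => by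
      rw [MonoidHom.mem_ker, powMonoidHom_apply, sq])
  obtain ⟨r, hr⟩ := IsPGroup.iff_card.mp (hHom.to_subgroup T)
  have h4S : 4 ∣ Sig.card := hpow _ ⟨r, hSigCard.trans (hT.trans hr)⟩ (by omega)
  have hSdvd : Sig.card ∣ Nat.card (G →* ℂˣ) := (hSigCard.trans hT) ▸ T.card_subgroup_dvd_card
  -- the number of degree two characters is odd
  let D2 := {χ : IrrCharacter G // d χ = 2}
  have hD2odd : ¬ 2 ∣ Nat.card D2 := by
    have hR2odd : R2.card % 2 = 1 := by omega
    intro hdvd2
    have hz : ∑ χ ∈ (Finset.univ.filter fun χ : IrrCharacter G => d χ = 2),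
        (if conjIrr χ = χ then (0 : ZMod 2) else 1) = 0 := by
      refine Finset.sum_involution (fun χ _ => conjIrr χ) (fun χ _ => ?_) (fun χ _ hne hfix => ?_)
        (fun χ hχ => ?_) (fun χ _ => conjIrr_conjIrr χ)
      · rw [conjIrr_conjIrr]
        by_cases hc : conjIrr χ = χ
        · rw [if_pos hc, if_pos hc.symm, add_zero]
        · rw [if_neg hc, if_neg (Ne.symm hc)]; rfl
      · exact hne (if_pos hfix)
      · exact Finset.mem_filter.mpr ⟨Finset.mem_univ _, (hdeg χ).trans (Finset.mem_filter.mp hχ).2⟩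
    rw [Finset.sum_ite, Finset.sum_const_zero, zero_add, Finset.sum_const, nsmul_eq_mul, mul_one,
      ZMod.natCast_eq_zero_iff] at hz
    have hsplit := Finset.card_filter_add_card_filter_not
      (s := Finset.univ.filter fun χ : IrrCharacter G => d χ = 2) (p := fun χ => conjIrr χ = χ)
    have hD : Nat.card D2 = (Finset.univ.filter fun χ : IrrCharacter G => d χ = 2).card := by
      rw [Nat.card_eq_fintype_card, Fintype.card_subtype]
    have hR : ((Finset.univ.filter fun χ : IrrCharacter G => d χ = 2).filter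
        fun χ => conjIrr χ = χ) = R2 := by
      rw [Finset.filter_filter, hR2]
      exact Finset.filter_congr fun χ _ => and_comm
    rw [hR, ← hD] at hsplit
    omega
  -- linear characters permute them with small stabilisers
  letI act : MulAction (G →* ℂˣ) D2 :=
    { smul := fun f χ => ⟨⟨fun g => (f g : ℂ) * (χ.1 : G → ℂ) g,
          isIrrCharacter_mul_monoidHom χ.1.2 f⟩, by
        have h := hd1 ⟨fun g => (f g : ℂ) * (χ.1 : G → ℂ) g, isIrrCharacter_mul_monoidHom χ.1.2 f⟩
        simp only [map_one, Units.val_one, one_mul, hd1 χ.1, χ.2] at h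
        exact_mod_cast h.symm⟩
      one_smul := fun χ => Subtype.ext (Subtype.ext (funext fun g => by
        show ((1 : G →* ℂˣ) g : ℂ) * _ = _; simp))
      mul_smul := fun f f' χ => Subtype.ext (Subtype.ext (funext fun g => by
        show ((f * f') g : ℂ) * _ = _ * (_ * _); simp [mul_assoc])) }
  by_contra hne
  have hbig : 4 < Nat.card (G →* ℂˣ) := by
    have h1 := Nat.le_of_dvd Nat.card_pos (h4S.trans hSdvd)
    omega
  have hfix : IsEmpty (MulAction.fixedPoints (G →* ℂˣ) D2) := by
    refine ⟨fun x => ?_⟩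
    obtain ⟨⟨χ, hχ2⟩, hx⟩ := x
    have hinner : ∀ f : G →* ℂˣ,
        classInner (fun g => (χ : G → ℂ) g * conj ((χ : G → ℂ) g)) (fun g => (f g : ℂ)) = 1 := by
      intro f
      have hfix' : ∀ g, (f g : ℂ) * (χ : G → ℂ) g = (χ : G → ℂ) g := fun g =>
        congrFun (congrArg Subtype.val (congrArg Subtype.val (hx f))) g
      rw [← classInner_irr_self χ.2]
      simp only [classInner]
      congr 1
      refine Finset.sum_congr rfl fun g _ => ?_
      have h3 : conj (χ.1 g) * conj (f g : ℂ) = conj ((χ : G → ℂ) g) := by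
        rw [← map_mul, mul_comm]; exact congrArg conj (hfix' g)
      rw [mul_assoc]; exact congrArg ((χ : G → ℂ) g * ·) h3
    have hc : IsCharacter G (fun g => (χ : G → ℂ) g * conj ((χ : G → ℂ) g)) :=
      isCharacter_mul (isCharacter_of_irr χ.2) (isCharacter_conjFun (isCharacter_of_irr χ.2))
    obtain ⟨m, hm, hm'⟩ := isCharacter_exists_coeff hc
    haveI : Fintype (G →* ℂˣ) := Fintype.ofFinite _
    let ι : (G →* ℂˣ) → IrrCharacter G := fun f => ⟨_, isIrrCharacter_monoidHom f⟩
    have hι : Function.Injective ι := fun f f' h => monoidHom_coe_injective (congrArg Subtype.val h)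
    have hm1 : ∀ f, m (ι f) = 1 := fun f => by
      have := (hm' (ι f)).symm.trans (hinner f)
      exact_mod_cast this
    have h4 : ∑ ψ, m ψ * d ψ = 4 := by
      have h5 := congrFun hm 1
      simp only [Finset.sum_apply, Pi.mul_apply, Pi.natCast_apply, nsmul_eq_mul, hd1, hχ2, map_natCast] at h5
      exact_mod_cast h5.symm
    have h6 : ∑ ψ ∈ Finset.univ.image ι, m ψ * d ψ ≤ ∑ ψ, m ψ * d ψ :=
      Finset.sum_le_sum_of_subset (Finset.subset_univ _)
    rw [h4, Finset.sum_image fun a _ b _ h => hι h, Finset.sum_congr rfl fun f _ => show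
      m (ι f) * d (ι f) = 1 by
        rw [hm1, one_mul]
        have := hd1 (ι f)
        simp [ι] at this
        exact_mod_cast this.symm, Finset.sum_const, smul_eq_mul, mul_one, Finset.card_univ,
      ← Nat.card_eq_fintype_card] at h6
    omega
  haveI : Fact (Nat.Prime 2) := ⟨Nat.prime_two⟩
  have h := hHom.card_modEq_card_fixedPoints D2
  rw [Nat.card_of_isEmpty (α := MulAction.fixedPoints (G →* ℂˣ) D2)] at h
  exact hD2odd (Nat.modEq_zero_iff_dvd.mp h)

end Cfsg.Agent.Char
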